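import Cfsg.Agent.JankoFourInvol.Structure
import Cfsg.Agent.Mathieu.SmallSimple

/-!
The action of the generators of the centraliser on 77 vectors contains the Mathieu group on 22
points, acting on the 77 octads through two points, and an element outside it.
-/

set_option autoImplicit false
set_option maxRecDepth 100000
set_option linter.style.haveILetI false

namespace CfsgLib.JankoFourInvol

open Matrix CfsgLib.JankoFour CfsgLib.JankoFourRep CfsgLib.JankoFour.Fixed CfsgLib.Mathieu Cfsg
  Cfsg.Spor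

theorem orbit77_len : orbit77.length = 77 := act77_ok.1

theorem orbit77_lt {i : ℕ} (h : i < 77) : orbit77.getD i 0 < 2 ^ 112 := by
  have := List.all_eq_true.1 act77_ok.2.2.1 (orbit77.getD i 0) (by
    rw [List.getD_eq_getElem _ _ (by rw [orbit77_len]; exact h)]; exact List.getElem_mem _)
  rwa [Nat.blt_eq] at this

/-- The 77 vectors. -/
def vec77 (i : Fin 77) : Fixed.Vec 112 := vecOf (orbit77.getD i.val 0)

theorem vec77_inj : Function.Injective vec77 := by
  intro i j e
  have h := vecOf_inj (orbit77_lt i.isLt) (orbit77_lt j.isLt) e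
  have hi : i.val < orbit77.length := orbit77_len.symm ▸ i.isLt
  have hj : j.val < orbit77.length := orbit77_len.symm ▸ j.isLt
  rw [List.getD_eq_getElem _ _ hi, List.getD_eq_getElem _ _ hj] at h
  exact Fin.ext ((act77_ok.2.2.2.1.getElem_inj_iff).1 h)

/-- The elements permuting the 77 vectors. -/
noncomputable def set77 : Subgroup J4 where
  carrier := {g | ∃ τ : Equiv.Perm (Fin 77), ∀ i, vec77 (τ i) ᵥ* (rep g).val = vec77 i}
  one_mem' := ⟨1, fun i => by rw [map_one, Units.val_one, Matrix.vecMul_one]; rfl⟩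
  mul_mem' := by
    rintro g h ⟨τ, hτ⟩ ⟨σ, hσ⟩
    refine ⟨τ * σ, fun i => ?_⟩
    rw [map_mul, Units.val_mul, ← Matrix.vecMul_vecMul, Equiv.Perm.mul_apply, hτ, hσ]
  inv_mem' := by
    rintro g ⟨τ, hτ⟩
    refine ⟨τ⁻¹, fun i => ?_⟩
    have h := hτ (τ⁻¹ i)
    rw [Equiv.Perm.coe_inv, Equiv.apply_symm_apply] at h
    rw [Equiv.Perm.coe_inv, ← h, Matrix.vecMul_vecMul, ← Units.val_mul, ← map_mul, mul_inv_cancel,
      map_one, Units.val_one, Matrix.vecMul_one]

theorem perm_unique {g : J4} {τ σ : Equiv.Perm (Fin 77)}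
    (hτ : ∀ i, vec77 (τ i) ᵥ* (rep g).val = vec77 i)
    (hσ : ∀ i, vec77 (σ i) ᵥ* (rep g).val = vec77 i) : τ = σ := by
  refine Equiv.ext fun i => vec77_inj ?_
  have h := congrArg (fun v => v ᵥ* ((rep g)⁻¹).val) ((hτ i).trans (hσ i).symm)
  simpa [Matrix.vecMul_vecMul] using h

/-- The permutation of the 77 vectors. -/
noncomputable def perm77Hom : set77 →* Equiv.Perm (Fin 77) :=
  MonoidHom.mk' (fun g => g.2.choose) fun g h => perm_unique (g * h).2.choose_spec fun i => by
    rw [Subgroup.coe_mul, map_mul, Units.val_mul, ← Matrix.vecMul_vecMul, Equiv.Perm.mul_apply,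
      g.2.choose_spec, h.2.choose_spec]

theorem perm77Hom_eq {g : set77} {τ : Equiv.Perm (Fin 77)}
    (h : ∀ i, vec77 (τ i) ᵥ* (rep g.1).val = vec77 i) : perm77Hom g = τ :=
  perm_unique g.2.choose_spec h

/-- A generator on the indices. -/
def step77 (k i : ℕ) : ℕ := (perm77.getD k []).getD i 0

/-- A word in the generators on the indices. -/
def walk77 : List ℕ → ℕ → ℕ
  | [], i => i
  | k :: w, i => walk77 w (step77 k i)

theorem step77_spec {k i : ℕ} (hk : k < 15) (hi : i < 77) :
    step77 k i < 77 ∧ rowMul (wTab (k + 5)) (orbit77.getD i 0) = orbit77.getD (step77 k i) 0 := by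
  have h := List.all_eq_true.1 act77_ok.2.2.2.2.1 k (List.mem_range.2 hk)
  rw [Bool.and_eq_true] at h
  have h' := List.all_eq_true.1 h.2 i (List.mem_range.2 hi)
  rw [Bool.and_eq_true, Nat.blt_eq] at h'
  exact ⟨h'.1, Nat.eq_of_beq_eq_true h'.2⟩

theorem walk77_spec : ∀ (w : List ℕ), (∀ k ∈ w, k < 15) → ∀ i < 77, walk77 w i < 77 ∧
    vecOf (orbit77.getD i 0) ᵥ* (rep (elW (w.map (· + 5)))).val =
      vecOf (orbit77.getD (walk77 w i) 0)
  | [], _, i, hi => ⟨hi, by simp [elW, walk77]⟩
  | k :: w, hw, i, hi => by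
    have hk := hw k (by simp)
    obtain ⟨h1, h2⟩ := step77_spec hk hi
    obtain ⟨h3, h4⟩ := walk77_spec w (fun a ha => hw a (by simp [ha])) _ h1
    refine ⟨h3, ?_⟩
    rw [List.map_cons, elW_cons, map_mul, Units.val_mul, ← Matrix.vecMul_vecMul,
      rep_el (by omega), ← vecOf_rowMul (wTab_length _), h2, h4]
    rfl

/-- The permutation of a word. -/
noncomputable def wordPerm (w : List ℕ) (hw : ∀ k ∈ w, k < 15) : Equiv.Perm (Fin 77) :=
  Equiv.ofBijective (fun i => ⟨walk77 w i.val, (walk77_spec w hw i.val i.isLt).1⟩)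
    (Finite.injective_iff_bijective.1 fun i j e => by
      apply vec77_inj
      have hi := (walk77_spec w hw i.val i.isLt).2
      have hj := (walk77_spec w hw j.val j.isLt).2
      rw [show walk77 w j.val = walk77 w i.val from (Fin.mk.inj e).symm, ← hi] at hj
      have := congrArg (fun v => v ᵥ* ((rep (elW (w.map (· + 5))))⁻¹).val) hj
      simpa [vec77, Matrix.vecMul_vecMul] using this.symm)

theorem wordPerm_val (w : List ℕ) (hw : ∀ k ∈ w, k < 15) (i : Fin 77) :
    (wordPerm w hw i).val = walk77 w i.val := rfl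

theorem wordPerm_spec (w : List ℕ) (hw : ∀ k ∈ w, k < 15) (i : Fin 77) :
    vec77 ((wordPerm w hw)⁻¹ i) ᵥ* (rep (elW (w.map (· + 5)))).val = vec77 i := by
  have h := (walk77_spec w hw ((wordPerm w hw)⁻¹ i).val ((wordPerm w hw)⁻¹ i).isLt).2
  rw [← wordPerm_val w hw, Equiv.Perm.coe_inv, Equiv.apply_symm_apply] at h
  exact h

theorem elW_mem_k (w : List ℕ) (hw : ∀ k ∈ w, k < 15) : elW (w.map (· + 5)) ∈ kGrp := by
  refine list_prod_mem fun x hx => ?_
  obtain ⟨a, ha, rfl⟩ := List.mem_map.1 hx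
  obtain ⟨b, hb, rfl⟩ := List.mem_map.1 ha
  exact el_mem_k (by omega) (by have := hw b hb; omega)

theorem k_le_set77 : kGrp ≤ set77 := by
  rw [kGrp, Subgroup.closure_le]
  rintro _ ⟨k, rfl⟩
  exact ⟨_, by simpa [elW] using wordPerm_spec [k.val] (by simp)⟩

/-- The action of the generated group on the 77 vectors. -/
noncomputable def phi : kGrp →* Equiv.Perm (Fin 77) :=
  perm77Hom.comp (Subgroup.inclusion k_le_set77)

theorem wordPerm_mem (w : List ℕ) (hw : ∀ k ∈ w, k < 15) : wordPerm w hw ∈ phi.range := by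
  refine ⟨(⟨_, elW_mem_k w hw⟩ : kGrp)⁻¹, ?_⟩
  rw [map_inv, inv_eq_iff_eq_inv]
  exact perm77Hom_eq (wordPerm_spec w hw)

theorem fixed77 (q : Fin 13) (i : Fin 77) :
    vec77 i ᵥ* (rep (el (q.val + 20))).val = vec77 i := by
  have h := List.all_eq_true.1 (List.all_eq_true.1 act77_ok.2.2.2.2.2 q.val
    (List.mem_range.2 q.isLt)) i.val (List.mem_range.2 i.isLt)
  rw [rep_el (by omega), vec77, ← vecOf_rowMul (wTab_length _), Nat.eq_of_beq_eq_true h]

theorem phi_gen (q : Fin 13) : phi ⟨el (q.val + 20), el_mem_k' q.val q.isLt⟩ = 1 :=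
  perm77Hom_eq (τ := 1) (fixed77 q)

theorem n_le_ker (H : Hyp) : nGrp.subgroupOf kGrp ≤ phi.ker := by
  have key : nGrp ≤ phi.ker.map kGrp.subtype := by
    have hq : ∀ i : Fin 12, qJ i ∈ phi.ker.map kGrp.subtype := fun i =>
      ⟨⟨_, q_mem_k i⟩, phi_gen ⟨i.val, by omega⟩, rfl⟩
    refine sup_le ?_ (Subgroup.zpowers_le.2 ⟨⟨_, p_mem_k⟩, phi_gen 12, rfl⟩)
    rw [qGrp, Subgroup.closure_le]
    rintro _ (rfl | ⟨i, rfl⟩)
    · have h := H.qq 0 1
      rw [if_pos (by decide)] at h
      rw [eq_mul_inv_iff_mul_eq.2 h.symm]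
      exact mul_mem (mul_mem (mul_mem (hq 0) (hq 1)) (inv_mem (hq 0))) (inv_mem (hq 1))
    · exact hq i
  intro x hx
  obtain ⟨y, hy, e⟩ := key hx
  rwa [Subtype.ext e] at hy

/-! ### The 77 octads -/

/-- The octads. -/
def oct77 (i : Fin 77) : Finset GolayPt := setOf24 (octads77.getD i.val 0)

theorem octads77_ok : (∀ i < 77, octads77.getD i 0 < 2 ^ 24) ∧ octads77.length = 77 ∧
    octads77.Nodup := by decide +kernel

theorem oct77_inj : Function.Injective oct77 := by
  intro i j e
  have h := setOf24_inj (octads77_ok.1 i i.isLt) (octads77_ok.1 j j.isLt) e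
  have hi : i.val < octads77.length := octads77_ok.2.1.symm ▸ i.isLt
  have hj : j.val < octads77.length := octads77_ok.2.1.symm ▸ j.isLt
  rw [List.getD_eq_getElem _ _ hi, List.getD_eq_getElem _ _ hj] at h
  exact Fin.ext ((octads77_ok.2.2.getElem_inj_iff).1 h)

/-- A permutation of the points acts on the octads as one of the 77 vectors. -/
def Induces (σ : Equiv.Perm GolayPt) (τ : Equiv.Perm (Fin 77)) : Prop :=
  ∀ i, (oct77 i).image σ = oct77 (τ i)

theorem Induces.unique {σ : Equiv.Perm GolayPt} {τ τ' : Equiv.Perm (Fin 77)} (h : Induces σ τ)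
    (h' : Induces σ τ') : τ = τ' :=
  Equiv.ext fun i => oct77_inj ((h i).symm.trans (h' i))

theorem Induces.mul {σ σ' : Equiv.Perm GolayPt} {τ τ' : Equiv.Perm (Fin 77)} (h : Induces σ τ)
    (h' : Induces σ' τ') : Induces (σ * σ') (τ * τ') := fun i => by
  rw [Equiv.Perm.coe_mul, ← Finset.image_image, h', h, Equiv.Perm.mul_apply]

theorem Induces.inv {σ : Equiv.Perm GolayPt} {τ : Equiv.Perm (Fin 77)} (h : Induces σ τ) :
    Induces σ⁻¹ τ⁻¹ := fun i => by
  have e := h (τ⁻¹ i)
  rw [Equiv.Perm.coe_inv, Equiv.apply_symm_apply] at e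
  rw [Equiv.Perm.coe_inv, Equiv.Perm.coe_inv, ← e, Finset.image_image, Equiv.symm_comp_self,
    Finset.image_id]

/-- The permutations of the points acting as elements of the group. -/
noncomputable def actsInside : Subgroup (Equiv.Perm GolayPt) where
  carrier := {σ | ∃ τ ∈ phi.range, Induces σ τ}
  one_mem' := ⟨1, one_mem _, fun i => by simp⟩
  mul_mem' := by
    rintro σ σ' ⟨τ, hτ, h⟩ ⟨τ', hτ', h'⟩
    exact ⟨τ * τ', mul_mem hτ hτ', h.mul h'⟩
  inv_mem' := by
    rintro σ ⟨τ, hτ, h⟩
    exact ⟨τ⁻¹, inv_mem hτ, h.inv⟩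

/-- The check for a table, a word and images. -/
def genCheck (w img : List ℕ) (t : ℕ) : Bool :=
  w.all (fun k => Nat.blt k 15) && tableValid t && preservesCode t && (List.range 77).all fun i =>
    Nat.beq (walk77 w (img.getD i 0)) i && Nat.blt (img.getD i 0) 77 &&
      Nat.beq (push t 24 (octads77.getD i 0)) (octads77.getD (img.getD i 0) 0)

theorem inGroup_of_genCheck {w img : List ℕ} {t : ℕ} (h : genCheck w img t = true) :
    InGroup enc (actsInside ⊓ M24) t := by
  rw [genCheck] at h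
  simp only [Bool.and_eq_true] at h
  obtain ⟨⟨⟨hw, hv⟩, hc⟩, hi⟩ := h
  obtain ⟨σ, r⟩ := exists_rep_of_valid hv
  have hw' : ∀ k ∈ w, k < 15 := fun k hk => by
    simpa [Nat.blt_eq] using List.all_eq_true.1 hw k hk
  refine ⟨σ, ⟨⟨_, inv_mem (wordPerm_mem w hw'), fun i => ?_⟩, mem_M24_of_table r hc⟩, r⟩
  have hii := List.all_eq_true.1 hi i.val (List.mem_range.2 i.isLt)
  simp only [Bool.and_eq_true, Nat.blt_eq] at hii
  have e : (wordPerm w hw')⁻¹ i = ⟨img.getD i.val 0, hii.1.2⟩ := by
    rw [Equiv.Perm.coe_inv, Equiv.symm_apply_eq]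
    exact Fin.ext (Nat.eq_of_beq_eq_true hii.1.1).symm
  refine Eq.trans (image_setOf24 r _) (Eq.trans ?_ (congrArg oct77 e).symm)
  exact congrArg setOf24 (Nat.eq_of_beq_eq_true hii.2)

theorem m22Words_ok : (List.zip (List.zip m22Words m22Images) m22Gens).all
      (fun e => genCheck e.1.1 e.1.2 e.2) = true ∧
    (List.zip (List.zip m22Words m22Images) m22Gens).map Prod.snd = m22Gens := by decide +kernel

theorem m22Gens_inGroup : ∀ t ∈ m22Gens, InGroup enc (actsInside ⊓ M24) t := by
  intro t ht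
  rw [← m22Words_ok.2] at ht
  obtain ⟨e, he, rfl⟩ := List.mem_map.1 ht
  exact inGroup_of_genCheck (List.all_eq_true.1 m22Words_ok.1 e he)

theorem m22_le : Spor.M22 ≤ actsInside := by
  have ok : reachChainOK m22Gens (m24Levels.drop 2) [pt 23, pt 0] m22Trees = true := by
    decide +kernel
  have hc : IsChain' (actsInside ⊓ M24) M24 (m24Levels.drop 2) [pt 23, pt 0] :=
    m24Levels_tail2.change _ _ (isReachChain_of_ok m22Gens_inGroup _ _ _ ok)
  rw [SporM22_eq]
  exact ((hc.spec inf_le_right _ _).1).trans inf_le_left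

/-- The action of the Mathieu group on the 77 vectors. -/
noncomputable def iota : Spor.M22 →* Equiv.Perm (Fin 77) :=
  MonoidHom.mk' (fun σ => (m22_le σ.2).choose) fun σ σ' =>
    (m22_le (σ * σ').2).choose_spec.2.unique
      ((m22_le σ.2).choose_spec.2.mul (m22_le σ'.2).choose_spec.2)

theorem iota_induces (σ : Spor.M22) : Induces σ.1 (iota σ) := (m22_le σ.2).choose_spec.2

theorem iota_range_le : iota.range ≤ phi.range := by
  rintro _ ⟨σ, rfl⟩
  exact (m22_le σ.2).choose_spec.1

theorem separate_ok : ((List.range 24).all fun p => (List.range 24).all fun q =>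
    Nat.beq p 0 || Nat.beq p 23 || Nat.beq q 0 || Nat.beq q 23 || Nat.beq q p || (List.range 77).any fun i =>
      Nat.testBit (octads77.getD i 0) p && !(Nat.testBit (octads77.getD i 0) q)) = true ∧
    ((List.range 24).all fun p => (List.range 24).all fun q =>
    Nat.beq p 0 || Nat.beq p 23 || Nat.beq q 0 || Nat.beq q 23 || Nat.beq q (app outTable p) || (List.range 77).any fun i =>
      Nat.testBit (octads77.getD i 0) p &&
        !(Nat.testBit (octads77.getD (outImages.getD i 0) 0) q)) = true ∧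
    app outTable 0 = 0 ∧ app outTable 23 = 23 ∧
    isCode 13938692 = true ∧ wt 13938692 = 8 ∧ isCode (push outTable 24 13938692) = false ∧
    push outTable 24 13938692 < 2 ^ 24 ∧
    ((List.range 77).all fun i => Nat.beq (walk77 outWord i) (outImages.getD i 0)) = true ∧
    (outWord.all fun k => Nat.blt k 15) = true := by decide +kernel

/-- A table determined by the images of the octads. -/
theorem rep_of_images {σ : Equiv.Perm GolayPt} (hσ : σ ∈ Spor.M22) {t : ℕ} {f : ℕ → ℕ}
    (h0 : app t 0 = 0) (h23 : app t 23 = 23)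
    (hsep : ((List.range 24).all fun p => (List.range 24).all fun q =>
      Nat.beq p 0 || Nat.beq p 23 || Nat.beq q 0 || Nat.beq q 23 || Nat.beq q (app t p) || (List.range 77).any fun i =>
        Nat.testBit (octads77.getD i 0) p && !(Nat.testBit (octads77.getD (f i) 0) q)) = true)
    (him : ∀ i : Fin 77, (oct77 i).image σ = setOf24 (octads77.getD (f i.val) 0)) :
    Rep enc σ t := by
  intro x
  obtain ⟨⟨-, hn⟩, hz⟩ := mem_SporM22.1 hσ
  have h := List.all_eq_true.1 (List.all_eq_true.1 hsep (idx x) (List.mem_range.2 (idx_lt x)))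
    (idx (σ x)) (List.mem_range.2 (idx_lt _))
  simp only [Bool.or_eq_true] at h
  show app t (idx x) = idx (σ x)
  have hx0 : x = some 0 → app t (idx x) = idx (σ x) := by
    rintro rfl
    rw [hz, show idx (some 0 : GolayPt) = 0 by decide +kernel, h0]
  have hx23 : x = none → app t (idx x) = idx (σ x) := by
    rintro rfl
    rw [hn, show idx (none : GolayPt) = 23 by decide +kernel, h23]
  rcases h with ((((h | h) | h) | h) | h) | h
  · exact hx0 (by rw [← pt_0, ← Nat.eq_of_beq_eq_true h, pt_idx])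
  · exact hx23 (by rw [← pt_23, ← Nat.eq_of_beq_eq_true h, pt_idx])
  · exact hx0 (σ.injective (by rw [hz, ← pt_0, ← Nat.eq_of_beq_eq_true h, pt_idx]))
  · exact hx23 (σ.injective (by rw [hn, ← pt_23, ← Nat.eq_of_beq_eq_true h, pt_idx]))
  · exact (Nat.eq_of_beq_eq_true h).symm
  · exfalso
    obtain ⟨i, hi, hb⟩ := List.any_eq_true.1 h
    rw [List.mem_range] at hi
    rw [Bool.and_eq_true, Bool.not_eq_true'] at hb
    have hx : σ x ∈ (oct77 ⟨i, hi⟩).image σ := Finset.mem_image_of_mem _ (mem_setOf24.2 hb.1)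
    rw [him, mem_setOf24, hb.2] at hx
    exact Bool.false_ne_true hx

theorem iota_injective : Function.Injective iota := by
  rw [← MonoidHom.ker_eq_bot_iff, eq_bot_iff]
  intro σ hσ
  rw [Subgroup.mem_bot]
  refine Subtype.ext (Equiv.ext fun x => ?_)
  show σ.1 x = x
  obtain ⟨⟨-, hn⟩, hz⟩ := mem_SporM22.1 σ.2
  by_contra hne
  have h := List.all_eq_true.1 (List.all_eq_true.1 separate_ok.1 (idx x)
    (List.mem_range.2 (idx_lt x))) (idx (σ.1 x)) (List.mem_range.2 (idx_lt _))
  simp only [Bool.or_eq_true] at h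
  rcases h with ((((h | h) | h) | h) | h) | h
  · have e : x = some 0 := by rw [← pt_0, ← Nat.eq_of_beq_eq_true h, pt_idx]
    subst e; exact hne hz
  · have e : x = none := by rw [← pt_23, ← Nat.eq_of_beq_eq_true h, pt_idx]
    subst e; exact hne hn
  · have e : x = some 0 := σ.1.injective (by rw [hz, ← pt_0, ← Nat.eq_of_beq_eq_true h, pt_idx])
    subst e; exact hne hz
  · have e : x = none := σ.1.injective (by rw [hn, ← pt_23, ← Nat.eq_of_beq_eq_true h, pt_idx])
    subst e; exact hne hn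
  · exact hne (idx_injective (Nat.eq_of_beq_eq_true h))
  · obtain ⟨i, hi, hb⟩ := List.any_eq_true.1 h
    rw [List.mem_range] at hi
    rw [Bool.and_eq_true, Bool.not_eq_true'] at hb
    have him := iota_induces σ ⟨i, hi⟩
    rw [MonoidHom.mem_ker.1 hσ, Equiv.Perm.one_apply] at him
    have hx : σ.1 x ∈ oct77 ⟨i, hi⟩ := him ▸ Finset.mem_image_of_mem _ (mem_setOf24.2 hb.1)
    rw [oct77, mem_setOf24, hb.2] at hx
    exact Bool.false_ne_true hx

theorem outWord_lt : ∀ k ∈ outWord, k < 15 := fun k hk => by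
  simpa [Nat.blt_eq] using List.all_eq_true.1 separate_ok.2.2.2.2.2.2.2.2.2 k hk

theorem outer_notMem : wordPerm outWord outWord_lt ∉ iota.range := by
  rintro ⟨σ, hσ⟩
  obtain ⟨-, hsep, h0, h23, hcode, hwt, hbad, hlt, himg, -⟩ := separate_ok
  have hr : Rep enc σ.1 outTable := rep_of_images σ.2 (f := fun i => outImages.getD i 0) h0 h23 hsep
    fun i => by
      rw [iota_induces σ i, hσ, oct77, wordPerm_val,
        Nat.eq_of_beq_eq_true (List.all_eq_true.1 himg i.val (List.mem_range.2 i.isLt))]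
  have hmem := octad_image (SporM22_le σ.2) (setOf24_mem_wordsOfWeight hcode hwt)
  rw [image_setOf24 hr] at hmem
  have hc := ((mem_wordsOfWeight_iff _ _).1 hmem).1
  rw [setOf24_inj (maskOf_lt _) hlt (setOf24_maskOf _), hbad] at hc
  exact Bool.false_ne_true hc

/-- The range of the action is at least twice as large as the Mathieu group. -/
theorem card_range_ge : 887040 ≤ Nat.card phi.range := by
  have hc : Nat.card iota.range = 443520 := by
    rw [← card_SporM22]
    exact (Nat.card_congr (MonoidHom.ofInjective iota_injective).toEquiv).symm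
  have hlt : iota.range < phi.range :=
    lt_of_le_of_ne iota_range_le fun e => outer_notMem (e ▸ wordPerm_mem _ outWord_lt)
  obtain ⟨k, hk⟩ := Subgroup.card_dvd_of_le hlt.le
  have hk1 : 1 < k := by
    by_contra hk1
    refine hlt.ne (Subgroup.eq_of_le_of_card_ge hlt.le ?_)
    rw [hk]
    calc Nat.card iota.range * k ≤ Nat.card iota.range * 1 := Nat.mul_le_mul_left _ (by omega)
      _ = _ := mul_one _
  rw [hk, hc]
  calc 887040 = 443520 * 2 := rfl
    _ ≤ 443520 * k := Nat.mul_le_mul_left _ hk1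

end CfsgLib.JankoFourInvol
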