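import Mathlib.GroupTheory.Sylow
import Mathlib.NumberTheory.Divisors
import Mathlib.Data.ZMod.Basic
import Mathlib.Tactic.NormNum.Prime
import Mathlib.Tactic.Group
import Mathlib.Tactic.Ring

/-!
An element of order 31 commutes with one of order 11 in a group whose order is small enough against
the kernel of a homomorphism.
-/

set_option autoImplicit false
set_option linter.style.haveILetI false

namespace CfsgLib.JankoFourInvol

theorem exists_commute_eleven {G K : Type*} [Group G] [Finite G] [Group K] (f : G →* K) {u : G}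
    (hu : orderOf u = 31) (hfu : f u ≠ 1) (hk31 : ¬ 31 ∣ Nat.card f.ker)
    (hk11 : ¬ 11 ∣ Nat.card f.ker) (hk2 : 2 ^ 13 ∣ Nat.card f.ker)
    (hG : Nat.card G ∣ 2 ^ 16 * 3 * 5 * 11 * 31) (h11 : 11 ∣ Nat.card G) :
    ∃ y : G, orderOf y = 11 ∧ Commute y u := by
  haveI : Fact (Nat.Prime 31) := ⟨by norm_num⟩
  haveI : Fact (Nat.Prime 11) := ⟨by norm_num⟩
  haveI : Finite f.range := Finite.of_surjective f.rangeRestrict f.rangeRestrict_surjective
  set w : f.range := f.rangeRestrict u
  have hw : orderOf w = 31 := by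
    refine orderOf_eq_prime ?_ fun e => hfu (congrArg Subtype.val e)
    rw [← map_pow, ← hu, pow_orderOf_eq_one, map_one]
  have hrange : Nat.card f.range ∣ 2 ^ 3 * 3 * 5 * 11 * 31 := by
    obtain ⟨c, hc⟩ := hk2
    have h := Subgroup.card_mul_index f.ker
    rw [Subgroup.index_ker, hc] at h
    rw [← h, mul_assoc] at hG
    exact (dvd_mul_left _ c).trans
      (Nat.dvd_of_mul_dvd_mul_left (by norm_num : 0 < 2 ^ 13) (hG.trans (dvd_of_eq (by norm_num))))
  have hfac : (Nat.card f.range).factorization 31 = 1 := by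
    refine le_antisymm ?_ ((by norm_num : Nat.Prime 31).factorization_pos_of_dvd Nat.card_pos.ne'
      (hw ▸ orderOf_dvd_natCard w))
    by_contra hlt
    exact absurd ((((by norm_num : Nat.Prime 31).pow_dvd_iff_le_factorization Nat.card_pos.ne').2
      (show 2 ≤ _ by omega)).trans hrange) (by norm_num)
  let T : Sylow 31 f.range := Sylow.ofCard (Subgroup.zpowers w)
    (by rw [Nat.card_zpowers, hw, hfac, pow_one])
  have hT : Nat.card (T : Subgroup f.range) = 31 := (Nat.card_zpowers w).trans hw
  have hn : Nat.card (Sylow 31 f.range) = 1 := by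
    have h4 := (T : Subgroup f.range).card_mul_index
    rw [hT] at h4
    rw [← h4] at hrange
    have h2 : Nat.card (Sylow 31 f.range) ∣ 1320 := T.card_dvd_index.trans
      (Nat.dvd_of_mul_dvd_mul_left (by norm_num : 0 < 31) (hrange.trans (dvd_of_eq (by norm_num))))
    have : ∀ m ∈ Nat.divisors 1320, m % 31 = 1 % 31 → m = 1 := by decide +kernel
    exact this _ (Nat.mem_divisors.2 ⟨h2, by norm_num⟩) (card_sylow_modEq_one 31 f.range)
  haveI : Subsingleton (Sylow 31 f.range) := (Nat.card_eq_one_iff_unique.1 hn).1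
  haveI : (T : Subgroup f.range).Normal := Sylow.normal_of_subsingleton T
  let M : Subgroup G := (T : Subgroup f.range).comap f.rangeRestrict
  haveI : M.Normal := Subgroup.Normal.comap inferInstance _
  have huM : u ∈ M := Subgroup.mem_zpowers w
  have hMcard : Nat.card M = 31 * Nat.card f.ker := by
    have e1 := M.card_mul_index
    have e2 := Subgroup.card_mul_index f.ker
    have e3 := (T : Subgroup f.range).card_mul_index
    rw [Subgroup.index_ker, ← e3, hT] at e2
    rw [show M.index = (T : Subgroup f.range).index from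
      Subgroup.index_comap_of_surjective _ f.rangeRestrict_surjective, ← e2] at e1
    exact Nat.eq_of_mul_eq_mul_right (Nat.pos_of_ne_zero Subgroup.index_ne_zero_of_finite)
      (e1.trans (by ring))
  have h11M : ¬ 11 ∣ Nat.card M := by
    rw [hMcard]
    intro h
    rcases (by norm_num : Nat.Prime 11).dvd_mul.1 h with h | h
    · norm_num at h
    · exact hk11 h
  let U : Sylow 31 M := Sylow.ofCard (Subgroup.zpowers ⟨u, huM⟩) (by
    rw [Nat.card_zpowers, Subgroup.orderOf_mk, hu, hMcard,
      Nat.factorization_mul (by norm_num) Nat.card_pos.ne', Finsupp.add_apply,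
      Nat.Prime.factorization_self (by norm_num), Nat.factorization_eq_zero_of_not_dvd hk31, pow_one])
  have hFr := Sylow.normalizer_sup_eq_top U
  set Nm := Subgroup.normalizer (((U : Subgroup M).map M.subtype : Subgroup G) : Set G)
  have h11N : 11 ∣ Nat.card Nm := by
    have hsur : Function.Surjective ((QuotientGroup.mk' M).comp Nm.subtype) := by
      intro q
      obtain ⟨x, rfl⟩ := QuotientGroup.mk'_surjective M q
      have hx : x ∈ Nm ⊔ M := by rw [hFr]; trivial
      obtain ⟨a, ha, b, hb, rfl⟩ := Subgroup.mem_sup_of_normal_right.1 hx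
      refine ⟨⟨a, ha⟩, ?_⟩
      show QuotientGroup.mk' M a = QuotientGroup.mk' M (a * b)
      rw [map_mul, show QuotientGroup.mk' M b = 1 from (QuotientGroup.eq_one_iff b).2 hb, mul_one]
    have hc := Subgroup.card_dvd_of_surjective _ hsur
    rw [show Nat.card (G ⧸ M) = M.index from rfl] at hc
    rw [← M.card_mul_index] at h11
    exact (((by norm_num : Nat.Prime 11).dvd_mul.1 h11).resolve_left h11M).trans hc
  obtain ⟨⟨y, hyN⟩, hy⟩ := exists_prime_orderOf_dvd_card' 11 h11N
  rw [Subgroup.orderOf_mk] at hy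
  refine ⟨y, hy, ?_⟩
  obtain ⟨v, hv, e⟩ := (Subgroup.mem_normalizer_iff.1 hyN u).1
    ⟨⟨u, huM⟩, Subgroup.mem_zpowers _, rfl⟩
  obtain ⟨n, rfl⟩ := (Submonoid.mem_powers_iff _ _).1 (mem_powers_iff_mem_zpowers.2 hv)
  have hn' : y * u * y⁻¹ = u ^ n := e.symm
  have hiter : ∀ j, y ^ j * u * (y ^ j)⁻¹ = u ^ (n ^ j) := by
    intro j
    induction j with
    | zero => simp
    | succ j ih =>
      rw [pow_succ', show y * y ^ j * u * (y * y ^ j)⁻¹ = y * (y ^ j * u * (y ^ j)⁻¹) * y⁻¹ by group,
        ih, ← conj_pow, hn', ← pow_mul, ← pow_succ']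
  have h := hiter 11
  rw [← hy, pow_orderOf_eq_one, one_mul, inv_one, mul_one, hy] at h
  have hm : 1 ≡ n ^ 11 [MOD 31] := by
    rw [← hu]; exact pow_eq_pow_iff_modEq.1 (by rw [pow_one]; exact h)
  have key : ∀ a < 31, 1 % 31 = a ^ 11 % 31 → a = 1 := by decide +kernel
  have h1 : n % 31 = 1 := key _ (Nat.mod_lt _ (by norm_num)) (by rw [← Nat.pow_mod]; exact hm)
  rw [← pow_mod_orderOf, hu, h1, pow_one] at hn'
  exact mul_inv_eq_iff_eq_mul.1 hn'

end CfsgLib.JankoFourInvol
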