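import Cfsg.Agent.JankoFourInvol.Section12
import Cfsg.Agent.JankoFourInvol.Frattini

/-!
The order of the centraliser of the involution divides `21799895040`.
-/

set_option autoImplicit false
set_option maxRecDepth 100000
set_option linter.style.haveILetI false

namespace CfsgLib.JankoFourInvol

open Matrix CfsgLib.JankoFour CfsgLib.JankoFourRep CfsgLib.JankoFour.Fixed Cfsg.Spor

/-! ### The idempotent -/

theorem eRows_eq : toMat eRows = rect 112 15 eCoord * rect 15 112 eBasis := by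
  rw [rect_mul idem_ok.1.1]
  ext i j
  have hi : eRows.getD i.val 0 = rowMul eBasis (eCoord.getD i.val 0) := by
    simp [eRows, List.getD_eq_getElem?_getD, List.getElem?_map, List.getElem?_range i.isLt]
  show bit (eRows.getD i.val 0) j.val = _
  rw [hi]; rfl

theorem eBasis_eCoord : rect 15 112 eBasis * rect 112 15 eCoord = 1 := by
  rw [rect_mul idem_ok.1.2]
  ext i j
  simp only [Matrix.of_apply, Matrix.one_apply]
  rw [Nat.eq_of_beq_eq_true (List.all_eq_true.1 idem_ok.2.2.1 i.val (List.mem_range.2 i.isLt)),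
    bit_two_pow]
  exact if_congr Fin.ext_iff.symm rfl rfl

theorem idem_mul : toMat eRows * toMat eRows = toMat eRows := by
  rw [eRows_eq, Matrix.mul_assoc, ← Matrix.mul_assoc (rect 15 112 eBasis), eBasis_eCoord,
    Matrix.one_mul]

theorem idem_range : Nat.card (mulHom (toMat eRows)).range = 2 ^ 15 := by
  rw [← card_vec (n := 15)]
  symm
  refine Nat.card_congr (Equiv.ofBijective
    (fun x => ⟨x ᵥ* rect 15 112 eBasis, x ᵥ* rect 15 112 eBasis, ?_⟩) ⟨fun x y e => ?_, ?_⟩)
  · show x ᵥ* rect 15 112 eBasis ᵥ* toMat eRows = x ᵥ* rect 15 112 eBasis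
    rw [eRows_eq, Matrix.vecMul_vecMul, ← Matrix.mul_assoc, eBasis_eCoord, Matrix.one_mul]
  · have h := congrArg (fun t : (mulHom (toMat eRows)).range => t.1 ᵥ* rect 112 15 eCoord) e
    simpa only [Matrix.vecMul_vecMul, eBasis_eCoord, Matrix.vecMul_one] using h
  · rintro ⟨_, w, rfl⟩
    refine ⟨w ᵥ* rect 112 15 eCoord, Subtype.ext ?_⟩
    show w ᵥ* rect 112 15 eCoord ᵥ* rect 15 112 eBasis = w ᵥ* toMat eRows
    rw [eRows_eq, Matrix.vecMul_vecMul]

theorem idem_poly : toMat eRows = polyMat (toMat (wTab 33)) 31 eMask :=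
  (polyMat_eq (wTab_length 33) idem_ok.2.1).symm

theorem idem_free {v : Fixed.Vec 112} (h : v ᵥ* toMat eRows = v)
    (h' : v ᵥ* toMat (wTab 33) = v) : v = 0 := by
  rw [idem_poly, vecMul_polyMat h', idem_ok.2.2.2] at h
  exact h.symm

theorem rFix_one : zData.rFix 1 = 2 ^ 50 := by
  have h1 : (1 : zData.cen) ^ 1 = 1 := one_pow _
  obtain ⟨r, k, hr, hk, -, hc⟩ :=
    zData.exp_eq (c := 112) (Nat.odd_iff.2 rfl) h1 (by rw [OneMemClass.coe_one]; exact fixNum_one')
  rw [map_one, fixNum_one'] at hk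
  rw [OneMemClass.coe_one] at hr
  have := Nat.pow_right_injective (le_refl 2) hk
  rw [hr, show r = 50 by omega]

theorem range_card : Nat.card (mulHom (toMat nRows)).range = 2 ^ 50 := by
  rw [← rFix_one]
  exact Nat.card_congr (Equiv.subtypeEquivRight fun v =>
    ⟨fun ⟨w, e⟩ => ⟨⟨w, e⟩, by rw [Units.val_one, Matrix.vecMul_one]⟩, fun ⟨⟨w, e⟩, _⟩ => ⟨w, e⟩⟩)

theorem n_conj_range (G : GLV 112) (N : Matrix (Fin 112) (Fin 112) (ZMod 2)) :
    Nat.card (mulHom ((G⁻¹).val * N * G.val)).range = Nat.card (mulHom N).range := by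
  symm
  refine Nat.card_congr (Equiv.ofBijective (fun r => ⟨r.1 ᵥ* G.val, ?_⟩) ⟨fun r s e => ?_, ?_⟩)
  · obtain ⟨w, e⟩ := r.2
    refine ⟨w ᵥ* G.val, ?_⟩
    rw [← e]
    show w ᵥ* G.val ᵥ* ((G⁻¹).val * N * G.val) = w ᵥ* N ᵥ* G.val
    rw [Matrix.vecMul_vecMul, ← Matrix.mul_assoc, ← Matrix.mul_assoc, ← Units.val_mul,
      mul_inv_cancel, Units.val_one, Matrix.one_mul, ← Matrix.vecMul_vecMul]
  · have h := congrArg
      (fun t : (mulHom ((G⁻¹).val * N * G.val)).range => t.1 ᵥ* (G⁻¹).val) e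
    simp only [Matrix.vecMul_vecMul, ← Units.val_mul, mul_inv_cancel, Units.val_one,
      Matrix.vecMul_one] at h
    exact Subtype.ext h
  · rintro ⟨_, w, rfl⟩
    refine ⟨⟨w ᵥ* (G⁻¹).val ᵥ* N, w ᵥ* (G⁻¹).val, rfl⟩, Subtype.ext ?_⟩
    show w ᵥ* (G⁻¹).val ᵥ* N ᵥ* G.val = w ᵥ* ((G⁻¹).val * N * G.val)
    rw [Matrix.vecMul_vecMul, Matrix.vecMul_vecMul, Matrix.mul_assoc]

theorem arith43 : ¬ 2 ^ 12 % 43 = 2 ^ 0 % 43 := by decide

theorem arith29 : ¬ 2 ^ 12 % 29 = 2 ^ 0 % 29 := by decide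

theorem arith37 : ∀ k ≤ 4, ¬ 2 ^ 12 % 37 = 2 ^ k % 37 := by decide

theorem arith23 : ∀ k ≤ 2, 2 ∣ k → ¬ 2 ^ 12 % 23 = 2 ^ k % 23 := by decide

theorem arith31k : ∀ k ≤ 2, 2 ^ 12 % 31 = 2 ^ k % 31 → k = 2 := by decide

theorem arith11k : ∀ k ≤ 12, 2 ^ 12 % 11 = 2 ^ k % 11 → k = 2 ∨ k = 12 := by decide

theorem arith11r : ∀ r ≤ 6, 2 ^ 50 % 11 = 2 ^ r % 11 → r = 0 := by decide

theorem dvd_strip {n A p k : ℕ} (hp : p.Prime) (hA : ¬ p ∣ A) (h : n ∣ A * p ^ k) (j : ℕ) (hj : j ≤ k)
    (hn : ¬ p ^ (j + 1) ∣ n) : n ∣ A * p ^ j := by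
  have e := Nat.Coprime.gcd_mul n ((hp.coprime_iff_not_dvd.2 hA).symm.pow_right k)
  rw [Nat.gcd_eq_left h] at e
  obtain ⟨i, hi, hg⟩ := (Nat.dvd_prime_pow hp).1 (Nat.gcd_dvd_right n (p ^ k))
  rw [e]
  refine Nat.mul_dvd_mul (Nat.gcd_dvd_right _ _) ?_
  rw [hg]
  refine Nat.pow_dvd_pow _ (not_lt.1 fun hij => hn ?_)
  exact (Nat.pow_dvd_pow p (show j + 1 ≤ i from hij)).trans (hg ▸ Nat.gcd_dvd_left _ _)

namespace Hyp

variable (H : Hyp)
include H

theorem act12_split {g : cenZ} {p c : ℕ} (hp : p.Prime) (hodd : p ≠ 2) (hg : orderOf g = p)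
    (hc : fixNum (rep g.1) = 2 ^ c) :
    ∃ r k, fixNum (act12 g) = 2 ^ k ∧ k ≤ 12 ∧ c = 2 * r + k ∧ 2 ^ 50 % p = 2 ^ r % p ∧
      2 ^ 12 % p = 2 ^ k % p := by
  haveI := Fact.mk hp
  have hgp : g ^ p = 1 := hg ▸ pow_orderOf_eq_one g
  have hu : toCen g ^ p = 1 := by rw [← map_pow, hgp, map_one]
  obtain ⟨r, k, hr, hk, hk', e⟩ :=
    zData.exp_eq (c := c) (hp.odd_of_ne_two hodd) hu (by rw [toCen_val]; exact hc)
  have hm := zData.rFix_modEq hu
  rw [rFix_one, hr] at hm
  have hv := vec_modEq (a := act12 g) (p := p) (by rw [← map_pow, hgp, map_one])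
  rw [show fixNum (act12 g) = 2 ^ k from hk] at hv
  exact ⟨r, k, hk, hk', e, hm, hv⟩

theorem order_coe {g : cenZ} {p : ℕ} (hg : orderOf g = p) : orderOf g.1 = p := by
  rw [← hg]; exact Subgroup.orderOf_coe g

theorem fix_prime {g : J4} {v : J4} {q d : ℕ} (hq : q.Prime) (hd : d < 112) (hv : v ^ q = 1)
    (hf : fixNum (rep v) = 2 ^ d) (hu : orderOf g = q) (h2 : ¬ q ^ 2 ∣ 86775571046077562880) :
    fixNum (rep g) = 2 ^ d := by
  haveI := H.finite
  exact fix_of_order hq hd hv hf hu (by rw [H.card]; exact h2)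

theorem not_dvd43 : ¬ 43 ∣ Nat.card cenZ := by
  intro h
  haveI := H.finite
  haveI : Fact (Nat.Prime 43) := ⟨by norm_num⟩
  obtain ⟨g, hg⟩ := exists_prime_orderOf_dvd_card' 43 h
  obtain ⟨r, k, -, -, e, -, hk⟩ := H.act12_split (by norm_num) (by norm_num) hg
    (H.fix_prime (by norm_num) (by norm_num) (H.rel_pow (mem_tail (by simp))) fix43 (H.order_coe hg)
      (by norm_num))
  exact arith43 (by rw [hk, show k = 0 by omega])

theorem not_dvd29 : ¬ 29 ∣ Nat.card cenZ := by
  intro h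
  haveI := H.finite
  haveI : Fact (Nat.Prime 29) := ⟨by norm_num⟩
  obtain ⟨g, hg⟩ := exists_prime_orderOf_dvd_card' 29 h
  obtain ⟨r, k, -, -, e, -, hk⟩ := H.act12_split (by norm_num) (by norm_num) hg
    (H.fix_prime (by norm_num) (by norm_num) (H.rel_pow (mem_tail (by simp))) fix29 (H.order_coe hg)
      (by norm_num))
  exact arith29 (by rw [hk, show k = 0 by omega])

theorem not_dvd37 : ¬ 37 ∣ Nat.card cenZ := by
  intro h
  haveI := H.finite
  haveI : Fact (Nat.Prime 37) := ⟨by norm_num⟩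
  obtain ⟨g, hg⟩ := exists_prime_orderOf_dvd_card' 37 h
  obtain ⟨r, k, -, -, e, -, hk⟩ := H.act12_split (by norm_num) (by norm_num) hg
    (H.fix_prime (by norm_num) (by norm_num) (H.rel_pow (mem_tail (by simp))) fix37 (H.order_coe hg)
      (by norm_num))
  exact arith37 k (by omega) hk

theorem not_dvd23 : ¬ 23 ∣ Nat.card cenZ := by
  intro h
  haveI := H.finite
  haveI : Fact (Nat.Prime 23) := ⟨by norm_num⟩
  obtain ⟨g, hg⟩ := exists_prime_orderOf_dvd_card' 23 h
  obtain ⟨r, k, -, -, e, -, hk⟩ := H.act12_split (by norm_num) (by norm_num) hg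
    (H.fix_prime (by norm_num) (by norm_num) (H.rel_pow (mem_tail (by simp))) fix23 (H.order_coe hg)
      (by norm_num))
  exact arith23 k (by omega) (by omega) hk

/-- An element of order eleven fixing `2 ^ 12` vectors acts trivially on the coordinates. -/
theorem act12_eleven {g : cenZ} (hg : orderOf g = 11) (hf : fixNum (rep g.1) = 2 ^ 12) :
    act12 g = 1 := by
  obtain ⟨r, k, hk, hk', e, hr, hkm⟩ := H.act12_split (by norm_num) (by norm_num) hg hf
  rcases arith11k k hk' hkm with rfl | rfl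
  · have := arith11r r (by omega) hr
    omega
  · exact eq_one_of_fixNum hk

theorem not_sq11 : ¬ 11 ^ 2 ∣ Nat.card cenZ := by
  intro h
  haveI := H.finite
  haveI : Fact (Nat.Prime 11) := ⟨by norm_num⟩
  obtain ⟨S, hS⟩ := Sylow.exists_subgroup_card_pow_prime 11 h
  obtain ⟨P, hP, hform, hC, hb, hy⟩ := H.exists_sylow
  have hfac : (Nat.card J4).factorization 11 = 3 := by
    rw [H.card, show (86775571046077562880 : ℕ) = 11 ^ 3 * 65195770883604480 from by norm_num,
      Nat.factorization_mul (by norm_num) (by norm_num), Finsupp.add_apply,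
      Nat.Prime.factorization_pow (by norm_num), Finsupp.single_eq_same,
      Nat.factorization_eq_zero_of_not_dvd (by norm_num)]
  have hScard : Nat.card (S.map cenZ.subtype) = 121 := by
    rw [Subgroup.card_map_of_injective cenZ.subtype_injective, hS]; norm_num
  obtain ⟨Q, hQ⟩ := (IsPGroup.of_card (p := 11) (n := 2) hScard).exists_le_sylow
  obtain ⟨k, hk⟩ := MulAction.exists_smul_eq J4 Q (Sylow.ofCard P (by rw [hfac, hP]; norm_num))
  let S' := (S.map cenZ.subtype).map (MulAut.conj k).toMonoidHom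
  have hS'P : S' ≤ P := by
    rintro _ ⟨x, hx, rfl⟩
    have : MulAut.conj k x ∈ ((k • Q : Sylow 11 J4) : Subgroup J4) := by
      rw [Sylow.coe_subgroup_smul]
      exact Subgroup.smul_mem_pointwise_smul x (MulAut.conj k) _ (hQ hx)
    rw [hk] at this
    exact this
  have hS'card : Nat.card S' = 121 := by
    rw [Subgroup.card_map_of_injective (MulAut.conj k).injective, hScard]
  have hcen : ∀ x ∈ P, Commute (el 38) x := by
    intro x hx
    obtain ⟨i, j, l, rfl⟩ := hform x hx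
    exact ((H.comm_Cy.pow_right i).mul_right (H.comm_Cb.pow_right j)).mul_right
      ((Commute.refl _).pow_right l)
  have hC1 : el 38 ≠ 1 := ne_one_of_fix (by norm_num) fixC
  set A := Subgroup.zpowers (el 38)
  have hA : Nat.card A = 11 := by rw [Nat.card_zpowers, orderOf_eq_prime H.pow_C hC1]
  have hAS : A ≤ S' := by
    have hdvd : Nat.card (A ⊓ S' : Subgroup J4) ∣ 11 := hA ▸ Subgroup.card_dvd_of_le inf_le_left
    rcases (Nat.dvd_prime (by norm_num)).1 hdvd with e | e
    · exfalso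
      have hcA : ∀ a ∈ A, ∀ x ∈ S', Commute a x := fun a ha x hx => by
        obtain ⟨n, rfl⟩ := Subgroup.mem_zpowers_iff.1 ha
        exact (hcen x (hS'P hx)).zpow_left n
      have hd : Disjoint A S' := disjoint_iff.2 (Subgroup.eq_bot_of_card_eq _ e)
      have hsup : A ⊔ S' = P := Subgroup.eq_of_le_of_card_ge
        (sup_le (Subgroup.zpowers_le.2 hC) hS'P)
        (by rw [card_sup_of_commute hcA hd, hA, hS'card, hP])
      have hcomm : ∀ x ∈ S', ∀ x' ∈ S', Commute x x' := fun x hx x' hx' => by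
        have := IsPGroup.commutative_of_card_eq_prime_sq (p := 11) (G := S')
          (by rw [hS'card]; norm_num) ⟨x, hx⟩ ⟨x', hx'⟩
        exact congrArg Subtype.val this
      have hP2 : P ≤ Subgroup.centralizer ((A : Set J4) ∪ S') := by
        rw [← hsup, sup_le_iff]
        constructor <;> intro x hx <;> rw [Subgroup.mem_centralizer_iff] <;>
          rintro w (hw | hw)
        · obtain ⟨n, rfl⟩ := Subgroup.mem_zpowers_iff.1 hx
          obtain ⟨n', rfl⟩ := Subgroup.mem_zpowers_iff.1 hw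
          exact (Commute.zpow_zpow_self _ n' n).eq
        · exact (hcA x hx w hw).eq.symm
        · exact (hcA w hw x hx).eq
        · exact (hcomm w hw x hx).eq
      have hP3 : P ≤ Subgroup.centralizer (P : Set J4) := by
        conv_lhs => rw [← hsup]
        rw [sup_le_iff]
        constructor <;> intro x hx <;> rw [Subgroup.mem_centralizer_iff] <;> intro w hw <;>
          refine (Subgroup.mem_centralizer_iff.1 (hP2 hw) x ?_).symm
        · exact Or.inl hx
        · exact Or.inr hx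
      have hyb : el 40 * el 39 = el 39 * el 40 := Subgroup.mem_centralizer_iff.1 (hP3 hb) _ hy
      rw [H.by_eq, mul_assoc] at hyb
      exact hC1 (right_eq_mul.1 hyb)
    · exact inf_eq_left.1 (Subgroup.eq_of_le_of_card_ge inf_le_left (by rw [e, hA]))
  have hnot : ¬ S' ≤ A := fun hle => by
    have := Subgroup.card_le_of_le hle
    rw [hA, hS'card] at this
    omega
  obtain ⟨x, hxS, hxA⟩ := SetLike.not_le_iff_exists.1 hnot
  obtain ⟨i, j, l, hx⟩ := hform x (hS'P hxS)
  have hij : ¬ (11 ∣ i ∧ 11 ∣ j) := by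
    rintro ⟨⟨a, rfl⟩, ⟨b, rfl⟩⟩
    refine hxA ?_
    rw [hx, pow_mul, H.pow_y, one_pow, one_mul, pow_mul, H.pow_b, one_pow, one_mul]
    exact Subgroup.pow_mem _ (Subgroup.mem_zpowers _) l
  have hx12 : fixNum (rep x) = 2 ^ 12 := hx ▸ H.fix_noncentral hij
  have hxC : fixNum (rep (x * el 38)) = 2 ^ 12 := by
    rw [hx, mul_assoc, ← pow_succ]; exact H.fix_noncentral hij
  have hCS : el 38 ∈ S' := hAS (Subgroup.mem_zpowers _)
  have hx11 : x ^ 11 = 1 := by
    by_contra hne
    have hdvd : orderOf x ∣ 11 ^ 2 := by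
      have := orderOf_dvd_natCard (⟨x, hxS⟩ : S')
      rwa [← Subgroup.orderOf_coe, hS'card] at this
    obtain ⟨e, he, hxe⟩ := (Nat.dvd_prime_pow (by norm_num)).1 hdvd
    have he2 : e = 2 := by
      by_contra h2
      refine hne (orderOf_dvd_iff_pow_eq_one.1 ?_)
      rw [hxe]
      exact (Nat.pow_dvd_pow 11 (show e ≤ 1 by omega)).trans (by norm_num)
    have hgen : Subgroup.zpowers x = S' := Subgroup.eq_of_le_of_card_ge
      (Subgroup.zpowers_le.2 hxS) (by rw [Nat.card_zpowers, hxe, he2, hS'card]; norm_num)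
    obtain ⟨m, hm⟩ := (Submonoid.mem_powers_iff _ _).1
      (mem_powers_iff_mem_zpowers.2 (show el 38 ∈ Subgroup.zpowers x by rw [hgen]; exact hCS))
    have := fixNum_le_pow (rep x) m
    rw [hx12, ← map_pow, hm, fixC] at this
    norm_num at this
  have hxC11 : (x * el 38) ^ 11 = 1 := by
    rw [(hcen x (hS'P hxS)).symm.mul_pow, hx11, H.pow_C, mul_one]
  have back : ∀ w ∈ S', fixNum (rep w) = 2 ^ 12 → w ^ 11 = 1 →
      ∀ g : cenZ, k * g.1 * k⁻¹ = w → act12 g = 1 := by
    intro w _ hf hw g e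
    have hf' : fixNum (rep g.1) = 2 ^ 12 := by rw [← fix_conj k, e, hf]
    refine H.act12_eleven (orderOf_eq_prime (Subtype.ext ?_) fun e1 => ?_) hf'
    · rw [← e, conj_pow, conj_eq_one_iff] at hw
      exact hw
    · exact ne_one_of_fix (by norm_num) hf' (congrArg Subtype.val e1)
  obtain ⟨_, ⟨g1, hg1, rfl⟩, e1⟩ := hxS
  obtain ⟨_, ⟨gC, -, rfl⟩, eC⟩ := hCS
  change k * g1.1 * k⁻¹ = x at e1
  change k * gC.1 * k⁻¹ = el 38 at eC
  have hxS' : x ∈ S' := ⟨g1.1, ⟨g1, hg1, rfl⟩, e1⟩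
  have a1 := back x hxS' hx12 hx11 g1 e1
  have a2 := back (x * el 38) (S'.mul_mem hxS' (hAS (Subgroup.mem_zpowers _))) hxC hxC11 (g1 * gC) (by
    rw [← e1, ← eC, Subgroup.coe_mul]; group)
  rw [map_mul, a1, one_mul] at a2
  have hfC : fixNum (rep gC.1) = 2 ^ 2 := by rw [← fix_conj k, eC, fixC]
  have hoC : orderOf gC = 11 := orderOf_eq_prime (Subtype.ext (by
    have hh := H.pow_C
    rw [← eC, conj_pow, conj_eq_one_iff] at hh
    exact hh)) fun e => ne_one_of_fix (by norm_num) hfC (congrArg Subtype.val e)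
  obtain ⟨r, m, hm, -, e, -, -⟩ := H.act12_split (by norm_num) (by norm_num) hoC hfC
  rw [a2, fixNum_one'] at hm
  have := Nat.pow_right_injective (le_refl 2) hm
  omega

theorem el51_order : orderOf (⟨el 51, H.el51_mem⟩ : cenZ) = 11 := by
  haveI : Fact (Nat.Prime 11) := ⟨by norm_num⟩
  refine orderOf_eq_prime (Subtype.ext (H.rel_pow (mem_tail (by simp)))) fun e => ?_
  exact ne_one_of_fix (by norm_num) fix11 (congrArg Subtype.val e)

theorem eleven_dvd : 11 ∣ Nat.card cenZ := H.el51_order ▸ orderOf_dvd_natCard _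

/-- The elements of order eleven of the centraliser fix four vectors. -/
theorem fix_eleven {g : cenZ} (hg : orderOf g = 11) : fixNum (rep g.1) = 2 ^ 2 := by
  haveI := H.finite
  haveI : Fact (Nat.Prime 11) := ⟨by norm_num⟩
  obtain ⟨k, hk⟩ := exists_conj_mem_zpowers hg H.el51_order H.not_sq11
  obtain ⟨j, hj⟩ := (Submonoid.mem_powers_iff _ _).1 (mem_powers_iff_mem_zpowers.2 hk)
  rw [← fix_conj k.1 g.1]
  refine fix_pow (v := el 51) (q := 11) (by norm_num) (H.rel_pow (mem_tail (by simp))) (fun e => ?_) j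
    (congrArg Subtype.val hj) fix11
  rw [conj_eq_one_iff] at e
  rw [show g = 1 from Subtype.ext e, orderOf_one] at hg
  norm_num at hg

theorem card_dvd_31 : Nat.card cenZ ∣ 2 ^ 21 * 3 ^ 3 * 5 * 7 * 11 * 31 := by
  haveI := H.finite
  have h : Nat.card cenZ ∣ 86775571046077562880 := H.card ▸ Subgroup.card_subgroup_dvd_card cenZ
  have h' : Nat.card cenZ ∣ 2 ^ 21 * 3 ^ 3 * 5 * 7 * 31 * 11 ^ 3 := by
    have h43 : Nat.card cenZ ∣ 2 ^ 21 * 3 ^ 3 * 5 * 7 * 31 * 11 ^ 3 * 23 * 29 * 37 :=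
      ((Nat.Prime.coprime_iff_not_dvd (by norm_num : Nat.Prime 43)).2 H.not_dvd43).symm.dvd_of_dvd_mul_right
        (by convert h using 1 <;> norm_num)
    exact ((Nat.Prime.coprime_iff_not_dvd (by norm_num : Nat.Prime 23)).2 H.not_dvd23).symm.dvd_of_dvd_mul_right
      (((Nat.Prime.coprime_iff_not_dvd (by norm_num : Nat.Prime 29)).2 H.not_dvd29).symm.dvd_of_dvd_mul_right
      (((Nat.Prime.coprime_iff_not_dvd (by norm_num : Nat.Prime 37)).2 H.not_dvd37).symm.dvd_of_dvd_mul_right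
        h43))
  have := dvd_strip (by norm_num : Nat.Prime 11) (by norm_num) h' 1 (by norm_num) H.not_sq11
  convert this using 1 <;> norm_num

theorem q_le_ker_card : 2 ^ 13 ∣ Nat.card act12.ker := by
  haveI := H.finite
  rw [← H.card_q, ← Nat.card_congr (Subgroup.subgroupOfEquivOfLe H.q_le_cenZ).toEquiv]
  exact Subgroup.card_dvd_of_le (q_le_ker H)

/-- No elements of orders 31 and 11 of the centraliser commute. -/
theorem no_pair {u y : cenZ} (hu : orderOf u = 31) (hy' : orderOf y = 11) (hcyu : Commute y u) :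
    False := by
  haveI := H.finite
  haveI : Fact (Nat.Prime 31) := ⟨by norm_num⟩
  -- transport to the element of order 31 of the list
  have hp33 : el 33 ^ 31 = 1 := H.rel_pow (mem_tail (by simp))
  have ho33 : orderOf (el 33) = 31 := orderOf_eq_prime hp33 (ne_one_of_fix (by norm_num) fix31)
  obtain ⟨g, hg⟩ := exists_conj_mem_zpowers (G := J4) ho33 (H.order_coe hu)
    (by rw [H.card]; norm_num)
  obtain ⟨m, hm⟩ := (Submonoid.mem_powers_iff _ _).1 (mem_powers_iff_mem_zpowers.2 hg)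
  set Z := g⁻¹ * zJ * g
  set Y := g⁻¹ * y.1 * g
  have he33 : el 33 = g⁻¹ * u.1 ^ m * g := by rw [hm]; group
  have hcomm : ∀ a b : J4, Commute a b → Commute (g⁻¹ * a * g) (g⁻¹ * b * g) := fun a b h => by
    show _ = _
    rw [show g⁻¹ * a * g * (g⁻¹ * b * g) = g⁻¹ * (a * b) * g by group, h.eq]
    group
  have hu_z : Commute (el 33) Z := he33 ▸ hcomm _ _ ((show Commute u.1 zJ from
    (mem_cenZ.1 u.2).symm).pow_left m)
  have hy_z : Commute Y Z := hcomm _ _ (mem_cenZ.1 y.2).symm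
  have hy_u : Commute Y (el 33) := he33 ▸ hcomm _ _
    ((show Commute y.1 u.1 from congrArg Subtype.val hcyu.eq).pow_right m)
  have hZ : (rep Z).val + 1 = ((rep g)⁻¹).val * toMat nRows * (rep g).val := by
    rw [nRows_eq, ← rep_zJ, Matrix.mul_add, Matrix.add_mul, Matrix.mul_one, map_mul, map_mul,
      map_inv, Units.val_mul, Units.val_mul, ← Units.val_mul ((rep g)⁻¹) (rep g), inv_mul_cancel,
      Units.val_one]
  have cadd : ∀ {a : J4}, Commute a Z → Commute (rep a).val ((rep Z).val + 1) := fun {a} h =>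
    Commute.add_right (by
      show (rep a).val * (rep Z).val = (rep Z).val * (rep a).val
      rw [← Units.val_mul, ← Units.val_mul, ← map_mul, ← map_mul, h.eq]) (Commute.one_right _)
  have hY11 : rep Y ^ 11 = 1 := by
    rw [← map_pow, show Y ^ 11 = g⁻¹ * y.1 ^ 11 * g by
      simp only [Y]; rw [show g⁻¹ * y.1 * g = g⁻¹ * y.1 * g⁻¹⁻¹ by rw [inv_inv], conj_pow, inv_inv],
      show y.1 ^ 11 = 1 by rw [← hy', ← SubgroupClass.coe_pow, pow_orderOf_eq_one]; rfl,
      mul_one, inv_mul_cancel, map_one]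
  have hZ2 : ((rep Z).val + 1) * ((rep Z).val + 1) = 0 := by
    rw [hZ, show ((rep g)⁻¹).val * toMat nRows * (rep g).val *
      (((rep g)⁻¹).val * toMat nRows * (rep g).val) =
      ((rep g)⁻¹).val * toMat nRows * ((rep g).val * ((rep g)⁻¹).val) * toMat nRows * (rep g).val by
        simp only [Matrix.mul_assoc], ← Units.val_mul, mul_inv_cancel, Units.val_one, Matrix.mul_one,
      Matrix.mul_assoc (((rep g)⁻¹).val) (toMat nRows) (toMat nRows),
      show toMat nRows * toMat nRows = 0 from zData.nn, Matrix.mul_zero, Matrix.zero_mul]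
  have cE : ∀ {A : Mat}, Commute A (toMat (wTab 33)) → Commute A (toMat eRows) := fun h => by
    rw [idem_poly]; exact commute_polyMat h _ _
  have h33 : (rep (el 33)).val = toMat (wTab 33) := rep_el (by norm_num)
  refine no_commuting_triple (n := 112) (u := rep (el 33)) (y := rep Y) (N := (rep Z).val + 1)
    (E := toMat eRows) (a := 50) rfl hZ2 (by rw [hZ, n_conj_range, range_card]) le_rfl idem_mul
    idem_range (fun v h1 h2 => idem_free h1 (h33 ▸ h2)) ?_ (cadd hu_z)
    (cE (h33 ▸ Commute.refl _)) ?_ hY11 (cadd hy_z) (cE ?_) ?_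
  · rw [← map_pow, hp33, map_one]
  · exact cE (A := (rep Z).val + 1) (h33 ▸ (cadd hu_z).symm)
  · rw [← h33]
    show (rep Y).val * (rep (el 33)).val = (rep (el 33)).val * (rep Y).val
    rw [← Units.val_mul, ← Units.val_mul, ← map_mul, ← map_mul, hy_u.eq]
  · have h := fix_conj g⁻¹ y.1
    rw [inv_inv] at h
    rw [h, H.fix_eleven hy']

theorem not_dvd31 : ¬ 31 ∣ Nat.card cenZ := by
  classical
  intro h31
  haveI := H.finite
  haveI : Fact (Nat.Prime 31) := ⟨by norm_num⟩
  haveI : Fact (Nat.Prime 11) := ⟨by norm_num⟩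
  have f31 : ∀ {g : cenZ}, orderOf g = 31 → fixNum (rep g.1) = 2 ^ 2 := fun hg =>
    H.fix_prime (by norm_num) (by norm_num) (H.rel_pow (mem_tail (by simp))) fix31 (H.order_coe hg)
      (by norm_num)
  obtain ⟨u, hu⟩ := exists_prime_orderOf_dvd_card' 31 h31
  obtain ⟨r, k, hk, -, e, -, hkm⟩ := H.act12_split (by norm_num) (by norm_num) hu (f31 hu)
  obtain rfl := arith31k k (by omega) hkm
  have hL : ∀ p, p = 31 ∨ p = 11 → ¬ p ∣ Nat.card act12.ker := by
    intro p hp hdvd
    haveI : Fact p.Prime := ⟨by rcases hp with rfl | rfl <;> norm_num⟩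
    obtain ⟨v, hv⟩ := exists_prime_orderOf_dvd_card' p hdvd
    have hv' : orderOf v.1 = p := by rw [Subgroup.orderOf_coe, hv]
    have hf : fixNum (rep v.1.1) = 2 ^ 2 := by
      rcases hp with rfl | rfl
      · exact f31 hv'
      · exact H.fix_eleven hv'
    obtain ⟨r', k', hk', -, e', -, -⟩ :=
      H.act12_split Fact.out (by rcases hp with rfl | rfl <;> norm_num) hv' hf
    rw [MonoidHom.mem_ker.1 v.2, fixNum_one'] at hk'
    have := Nat.pow_right_injective (le_refl 2) hk'
    omega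
  -- the orbit of the largest root
  let π : cenZ →* Equiv.Perm (Fixed.Vec 12) :=
    MonoidHom.mk' (fun g =>
      { toFun := fun v => v ᵥ* ((act12 g)⁻¹).val
        invFun := fun v => v ᵥ* (act12 g).val
        left_inv := fun v => by
          show v ᵥ* ((act12 g)⁻¹).val ᵥ* (act12 g).val = v
          rw [Matrix.vecMul_vecMul, ← Units.val_mul, inv_mul_cancel, Units.val_one, Matrix.vecMul_one]
        right_inv := fun v => by
          show v ᵥ* (act12 g).val ᵥ* ((act12 g)⁻¹).val = v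
          rw [Matrix.vecMul_vecMul, ← Units.val_mul, mul_inv_cancel, Units.val_one, Matrix.vecMul_one] })
      fun g g' => Equiv.ext fun v => by
        show v ᵥ* ((act12 (g * g'))⁻¹).val = v ᵥ* ((act12 g')⁻¹).val ᵥ* ((act12 g)⁻¹).val
        rw [Matrix.vecMul_vecMul, ← Units.val_mul, map_mul, _root_.mul_inv_rev]
  letI : MulAction cenZ (Fixed.Vec 12) := MulAction.compHom _ π
  have smul_eq : ∀ (g : cenZ) (v : Fixed.Vec 12), g • v = v ᵥ* ((act12 g)⁻¹).val := fun _ _ => rfl
  have orb : ∀ v w : Fixed.Vec 12, w ∈ MulAction.orbit cenZ v ↔ Linked v w := by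
    intro v w
    constructor
    · rintro ⟨g, rfl⟩
      exact ⟨g⁻¹, by rw [map_inv]; exact (smul_eq g v).symm⟩
    · rintro ⟨g, rfl⟩
      exact ⟨g⁻¹, by
        show g⁻¹ • v = _
        rw [smul_eq, map_inv, inv_inv]⟩
  have hM := H.card_dvd_31
  have hdvd : Nat.card {v // Linked (vec12 root2) v} ∣ 2 ^ 21 * 3 ^ 3 * 5 * 7 * 11 * 31 := by
    refine dvd_trans ?_ hM
    rw [← Nat.card_congr (Equiv.subtypeEquivRight (orb (vec12 root2))),
      show Nat.card {x // x ∈ MulAction.orbit cenZ (vec12 root2)} =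
        (MulAction.orbit cenZ (vec12 root2)).ncard from Nat.card_coe_set_eq _,
      ← MulAction.index_stabilizer]
    exact Subgroup.index_dvd_card _
  have hO : Nat.card {v // Linked (vec12 root2) v} = 2016 := by
    have hmem := card_linked H
    simp only [List.mem_cons, List.not_mem_nil, or_false] at hmem
    rcases hmem with h | h | h | h
    · exact h
    all_goals (rw [h] at hdvd; norm_num at hdvd)
  -- a fixed point of `u` in the orbit
  have hu31 : act12 u ^ 31 = 1 := by rw [← map_pow, ← hu, pow_orderOf_eq_one, map_one]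
  have hmod := set_modEq (p := 31) hu31 (fun v => Linked (vec12 root2) v)
    fun v hv => hv.trans ⟨u, rfl⟩
  change Nat.card {v // Linked (vec12 root2) v} ≡ _ [MOD 31] at hmod
  rw [hO] at hmod
  obtain ⟨v, hv, hvu⟩ : ∃ v, Linked (vec12 root2) v ∧ v ᵥ* (act12 u).val = v := by
    by_contra hne
    haveI : IsEmpty {v // Linked (vec12 root2) v ∧ v ᵥ* (act12 u).val = v} :=
      ⟨fun v => hne ⟨v.1, v.2⟩⟩
    rw [Nat.card_of_isEmpty] at hmod
    exact absurd hmod (by decide)
  set S := MulAction.stabilizer cenZ v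
  have hSi : S.index = 2016 := by
    rw [MulAction.index_stabilizer, ← hO, ← Nat.card_coe_set_eq]
    refine Nat.card_congr (Equiv.subtypeEquivRight fun w => ?_)
    rw [orb]
    exact ⟨fun h => hv.trans h, fun h => hv.symm.trans h⟩
  have hS : Nat.card S ∣ 2 ^ 16 * 3 * 5 * 11 * 31 := by
    have h := S.card_mul_index
    rw [hSi] at h
    rw [← h] at hM
    exact Nat.dvd_of_mul_dvd_mul_right (by norm_num : 0 < 2016) (hM.trans (dvd_of_eq (by norm_num)))
  have h11S : 11 ∣ Nat.card S := by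
    have h := H.eleven_dvd
    rw [← S.card_mul_index, hSi] at h
    exact ((by norm_num : Nat.Prime 11).dvd_mul.1 h).resolve_right (by norm_num)
  have huS : u ∈ S := by
    rw [MulAction.mem_stabilizer_iff, smul_eq]
    conv_lhs => rw [← hvu, Matrix.vecMul_vecMul, ← Units.val_mul, mul_inv_cancel, Units.val_one,
      Matrix.vecMul_one]
  have hLS : act12.ker ≤ S := by
    intro g hg
    rw [MulAction.mem_stabilizer_iff, smul_eq, MonoidHom.mem_ker.1 hg, inv_one, Units.val_one,
      Matrix.vecMul_one]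
  let f : S →* GLV 12 := act12.comp S.subtype
  have hker : Nat.card f.ker = Nat.card act12.ker :=
    Nat.card_congr
      { toFun := fun x => ⟨x.1.1, x.2⟩
        invFun := fun x => ⟨⟨x.1, hLS x.2⟩, x.2⟩
        left_inv := fun x => rfl
        right_inv := fun x => rfl }
  obtain ⟨y, hy, hyu⟩ := exists_commute_eleven f (u := ⟨u, huS⟩) (by rw [Subgroup.orderOf_mk, hu])
    (fun h1 => by
      rw [show act12 u = 1 from h1, fixNum_one'] at hk
      exact absurd (Nat.pow_right_injective (le_refl 2) hk) (by norm_num))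
    (by rw [hker]; exact hL 31 (Or.inl rfl)) (by rw [hker]; exact hL 11 (Or.inr rfl))
    (by rw [hker]; exact H.q_le_ker_card) hS h11S
  exact H.no_pair hu (y := y.1) (by rw [Subgroup.orderOf_coe]; exact hy) (congrArg Subtype.val hyu.eq)

/-- The bound on the order of the centraliser. -/
theorem card_dvd : Nat.card cenZ ∣ 21799895040 := by
  have h : Nat.card cenZ ∣ 21799895040 * 31 ^ 1 := H.card_dvd_31.trans (dvd_of_eq (by norm_num))
  have := dvd_strip (by norm_num : Nat.Prime 31) (by norm_num) h 0 (by norm_num)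
    (by rw [pow_one]; exact H.not_dvd31)
  rwa [pow_zero, mul_one] at this

end Hyp

end CfsgLib.JankoFourInvol
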