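import Cfsg.Agent.JankoFourInvol.Letters
import Cfsg.Agent.JankoFourInvol.Tables

/-! Kernel checks of relations among the letters. -/

set_option autoImplicit false
set_option maxRecDepth 100000

namespace CfsgLib.JankoFourInvol

open CfsgLib.JankoFour

/-- Relations among the letters. -/
def eqList : List (List ℕ × List ℕ) :=
  ([4, 4], []) ::
  (((List.range 28).map fun i => ([i + 5, 4], [4, i + 5])) ++ ([51, 4], [4, 51]) ::
    ((List.range 12).map fun i => ([i + 20, i + 20], [])) ++
    ((List.range 12).flatMap fun i => (List.range 12).map fun j =>
      ([i + 20, j + 20], (if j = i ^^^ 1 then [4] else []) ++ [j + 20, i + 20])) ++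
    ((List.range 12).map fun i => ([32, i + 20],
      (bif (conjP.getD i (false, [])).1 then [4] else []) ++
        (conjP.getD i (false, [])).2.map (· + 20) ++ [32])) ++
    [([32, 32, 32], []), (List.replicate 31 33, []), (List.replicate 23 34, []),
      (List.replicate 29 35, []), (List.replicate 37 36, []), (List.replicate 43 37, []),
      (List.replicate 11 38, []), (List.replicate 11 39, []), (List.replicate 11 40, []),
      (List.replicate 11 51, []), ([38, 39], [39, 38]), ([38, 40], [40, 38]),
      ([39, 40], [38, 40, 39])])

theorem eqList_ok : (eqList.all fun e => sameProd wTab e.1 e.2) = true := by decide +kernel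

end CfsgLib.JankoFourInvol
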