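import Cfsg.Agent.JankoFour.Basic
import Cfsg.Agent.JankoFour.Packed
import Cfsg.Agent.JankoFourRep.Rep
import Cfsg.Agent.JankoFourRep.Letters
import Cfsg.Agent.JankoFourInvol.Rows

/-!
Fifty-two letters for elements of the presented fourth Janko group with their matrices: `4` is the
involution, `5, …, 19` centralise it, `20, …, 31` generate the extraspecial group with it, `32` has
order 3, `33, …, 37` have orders 31, 23, 29, 37, 43, `38, 39, 40` generate a group of order `11 ^ 3`,
`41, …, 50` are `y ^ r b` there, and `51` has order 11 and centralises the involution.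
-/

set_option autoImplicit false
set_option maxRecDepth 100000

namespace CfsgLib.JankoFourInvol

open CfsgLib.JankoFour CfsgLib.JankoFourRep Cfsg.Spor

/-- The rows of a letter. -/
def wTab (c : ℕ) : List ℕ := bif Nat.blt c 4 then rowsOf c else wRows.getD (c - 4) rowsX

/-- The word of a letter. -/
def wWord (c : ℕ) : List ℕ := bif Nat.blt c 4 then [c] else wWords.getD (c - 4) []

theorem wRows_good : wRows.all (fun L => (L.length == 112) && L.all fun a => Nat.blt a lane) = true ∧
    ([rowsX, rowsY, rowsYInv, rowsT].all fun L =>
      (L.length == 112) && L.all fun a => Nat.blt a lane) = true := by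
  decide +kernel

theorem wTab_good : Good wTab := by
  have key : ∀ L : List ℕ, ((L.length == 112) && L.all fun a => Nat.blt a lane) = true →
      L.length = 112 ∧ ∀ a ∈ L, a < lane := fun L hL => by
    rw [Bool.and_eq_true, beq_iff_eq, List.all_eq_true] at hL
    exact ⟨hL.1, fun a ha => by simpa [Nat.blt_eq] using hL.2 a ha⟩
  have hb := List.all_eq_true.1 wRows_good.2
  intro c
  refine key _ ?_
  rw [wTab]
  cases h : Nat.blt c 4
  · simp only [cond_false, List.getD_eq_getElem?_getD]
    cases h' : wRows[c - 4]? with
    | none => exact hb rowsX (by simp)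
    | some L => exact List.all_eq_true.1 wRows_good.1 L (List.mem_of_getElem? h')
  · simp only [cond_true]
    match c, h with
    | 0, _ => exact hb _ (by simp [rowsOf])
    | 1, _ => exact hb _ (by simp [rowsOf])
    | 2, _ => exact hb _ (by simp [rowsOf])
    | 3, _ => exact hb _ (by simp [rowsOf])
    | n + 4, h => simp [Nat.blt_eq] at h

theorem wTab_length (c : ℕ) : (wTab c).length = 112 := (wTab_good c).1

/-- The depth of a letter. -/
def lvl (c : ℕ) : ℕ :=
  bif Nat.blt c 4 then 0 else bif Nat.blt c 20 then 1 else bif Nat.blt c 33 then 2 else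
    bif Nat.blt c 41 then 1 else 2

theorem lvl_ok : ∀ c < 52, 4 ≤ c → ∀ a ∈ wWord c, a < 52 ∧ lvl a < lvl c := by decide +kernel

theorem lvl_le : ∀ c < 52, lvl c ≤ 2 := by decide +kernel

theorem blt_four {c : ℕ} (h : 4 ≤ c) : Nat.blt c 4 = false := by
  rw [Bool.eq_false_iff]
  exact fun e => absurd (Nat.le_of_ble_eq_true e) (by omega)

theorem blt_four' {c : ℕ} (h : c < 4) : Nat.blt c 4 = true := Nat.ble_eq_true_of_le h

/-- A letter as an element, with a depth. -/
noncomputable def elF : ℕ → ℕ → J4
  | 0, c => match c with
    | 0 => xJ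
    | 1 => yJ
    | 2 => yJ⁻¹
    | _ => tJ
  | f + 1, c => bif Nat.blt c 4 then elF 0 c else ((wWord c).map (elF f)).prod

/-- A letter as an element. -/
noncomputable def el (c : ℕ) : J4 := elF 2 c

theorem elF_succ (f c : ℕ) :
    elF (f + 1) c = bif Nat.blt c 4 then elF 0 c else ((wWord c).map (elF f)).prod := by
  simp only [elF]

theorem elF_base {c : ℕ} (f : ℕ) (h : c < 4) : elF f c = elF 0 c := by
  cases f with
  | zero => rfl
  | succ f => rw [elF_succ, blt_four' h, cond_true]

theorem elF_stable : ∀ (f c : ℕ), c < 52 → lvl c ≤ f → elF f c = elF (f + 1) c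
  | f, c, hc, hl => by
    by_cases h4 : c < 4
    · rw [elF_base f h4, elF_base (f + 1) h4]
    · have h4' : 4 ≤ c := by omega
      cases f with
      | zero =>
        rw [lvl, blt_four h4', cond_false] at hl
        revert hl
        cases Nat.blt c 20 <;> cases Nat.blt c 33 <;> cases Nat.blt c 41 <;> simp
      | succ f =>
        rw [elF_succ, elF_succ, blt_four h4', cond_false, cond_false]
        refine congrArg List.prod (List.map_congr_left fun a ha => ?_)
        obtain ⟨ha', hla⟩ := lvl_ok c hc h4' a ha
        exact elF_stable f a ha' (by omega)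
termination_by f => f

/-- A letter is the product of its word. -/
theorem el_word {c : ℕ} (hc : c < 52) (h4 : 4 ≤ c) : el c = ((wWord c).map el).prod := by
  rw [el, elF_stable 2 c hc (lvl_le c hc), elF_succ, blt_four h4, cond_false]
  rfl

end CfsgLib.JankoFourInvol
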