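import Cfsg.Agent.JankoFour.SimpleFixed
import Cfsg.Agent.JankoFourInvol.Letters
import Cfsg.Agent.JankoFourInvol.Certs

/-! Kernel checks of the spaces of fixed vectors. -/

set_option autoImplicit false
set_option maxRecDepth 100000

namespace CfsgLib.JankoFourInvol

open CfsgLib.JankoFour.Fixed

theorem fixW33_ok : certOk 112 (wTab 33) kerW33 selW33 solW33 = true ∧ kerW33.length = 2 := by
  decide +kernel

theorem fixW34_ok : certOk 112 (wTab 34) kerW34 selW34 solW34 = true ∧ kerW34.length = 2 := by
  decide +kernel

theorem fixW35_ok : certOk 112 (wTab 35) kerW35 selW35 solW35 = true ∧ kerW35.length = 0 := by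
  decide +kernel

theorem fixW36_ok : certOk 112 (wTab 36) kerW36 selW36 solW36 = true ∧ kerW36.length = 4 := by
  decide +kernel

theorem fixW37_ok : certOk 112 (wTab 37) kerW37 selW37 solW37 = true ∧ kerW37.length = 0 := by
  decide +kernel

theorem fixW38_ok : certOk 112 (wTab 38) kerW38 selW38 solW38 = true ∧ kerW38.length = 2 := by
  decide +kernel

theorem fixW39_ok : certOk 112 (wTab 39) kerW39 selW39 solW39 = true ∧ kerW39.length = 12 := by
  decide +kernel

theorem fixW40_ok : certOk 112 (wTab 40) kerW40 selW40 solW40 = true ∧ kerW40.length = 12 := by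
  decide +kernel

theorem fixW51_ok : certOk 112 (wTab 51) kerW51 selW51 solW51 = true ∧ kerW51.length = 2 := by
  decide +kernel

theorem fixW41_ok : certOk 112 (wTab 41) kerW41 selW41 solW41 = true ∧ kerW41.length = 12 := by
  decide +kernel

theorem fixW42_ok : certOk 112 (wTab 42) kerW42 selW42 solW42 = true ∧ kerW42.length = 12 := by
  decide +kernel

theorem fixW43_ok : certOk 112 (wTab 43) kerW43 selW43 solW43 = true ∧ kerW43.length = 12 := by
  decide +kernel

theorem fixW44_ok : certOk 112 (wTab 44) kerW44 selW44 solW44 = true ∧ kerW44.length = 12 := by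
  decide +kernel

theorem fixW45_ok : certOk 112 (wTab 45) kerW45 selW45 solW45 = true ∧ kerW45.length = 12 := by
  decide +kernel

theorem fixW46_ok : certOk 112 (wTab 46) kerW46 selW46 solW46 = true ∧ kerW46.length = 12 := by
  decide +kernel

theorem fixW47_ok : certOk 112 (wTab 47) kerW47 selW47 solW47 = true ∧ kerW47.length = 12 := by
  decide +kernel

theorem fixW48_ok : certOk 112 (wTab 48) kerW48 selW48 solW48 = true ∧ kerW48.length = 12 := by
  decide +kernel

theorem fixW49_ok : certOk 112 (wTab 49) kerW49 selW49 solW49 = true ∧ kerW49.length = 12 := by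
  decide +kernel

theorem fixW50_ok : certOk 112 (wTab 50) kerW50 selW50 solW50 = true ∧ kerW50.length = 12 := by
  decide +kernel

end CfsgLib.JankoFourInvol
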