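import Cfsg.Agent.JankoFourInvol.Proj
import Cfsg.Agent.JankoFourInvol.Letters
import Cfsg.Agent.JankoFourInvol.Tables

/-! Kernel checks of the section of twelve dimensions, its orbits, the idempotent and the action on
77 vectors. -/

set_option autoImplicit false
set_option maxRecDepth 100000

namespace CfsgLib.JankoFourInvol

open CfsgLib.JankoFour CfsgLib.JankoFourRep

/-- The rows of `1 + z`. -/
def nRow (i : ℕ) : ℕ := (wTab 4).getD i 0 ^^^ 2 ^ i

/-- The rows of `1 + z` as a list. -/
def nRows : List ℕ := (List.range 112).map nRow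

theorem split_ok :
    (liftM.length = 12 ∧ projM.length = 112 ∧ compM.length = 112 ∧ nRows.length = 112) ∧
    ((List.range 112).all fun i => Nat.beq (rowMul liftM (projM.getD i 0) ^^^
      rowMul compM (nRows.getD i 0) ^^^ rowMul nRows (compM.getD i 0)) (2 ^ i)) = true ∧
    ((List.range 12).all fun i => Nat.beq (rowMul nRows (liftM.getD i 0)) 0 &&
      Nat.beq (rowMul projM (liftM.getD i 0)) (2 ^ i)) = true ∧
    ((List.range 112).all fun i => Nat.beq (rowMul nRows (nRows.getD i 0)) 0 &&
      Nat.beq (rowMul projM (nRows.getD i 0)) 0) = true := by decide +kernel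

theorem genM_ok : genM.length = 15 ∧
    ((List.range 15).all fun k => ((genM.getD k []).length == 12) && (List.range 12).all fun i =>
      Nat.beq (rowMul projM (rowMul (wTab (k + 5)) (liftM.getD i 0))) ((genM.getD k []).getD i 0)) =
      true ∧
    ((List.range 12).all fun q => (List.range 12).all fun i =>
      Nat.beq (rowMul projM (rowMul (wTab (q + 20)) (liftM.getD i 0))) (2 ^ i)) = true ∧
    ((List.range 12).all fun i =>
      Nat.beq (rowMul projM (rowMul (wTab 4) (liftM.getD i 0))) (2 ^ i)) = true := by decide +kernel

/-- The rows of the idempotent. -/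
def eRows : List ℕ := (List.range 112).map fun i => rowMul eBasis (eCoord.getD i 0)

theorem idem_ok : (eBasis.length = 15 ∧ eCoord.length = 112) ∧
    ((List.range 112).all fun i => Nat.beq (polyRow (wTab 33) 31 eMask (2 ^ i)) (eRows.getD i 0)) =
      true ∧
    ((List.range 15).all fun i => Nat.beq (rowMul eCoord (eBasis.getD i 0)) (2 ^ i)) = true ∧
    polyPar 31 eMask = false := by decide +kernel

/-- A check of an orbit tree: every entry names a vector seen and a generator. -/
def treeWalk (T : List ℕ) (seen : ℕ) : Option ℕ :=
  match T with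
  | [] => some seen
  | e :: T => CosetEnum.force e fun e =>
      bif Nat.testBit seen (e / 16) && Nat.blt (e % 16) 15 then
        CosetEnum.force (rowMul (genM.getD (e % 16) []) (e / 16)) fun v =>
          CosetEnum.force (seen ||| 2 ^ v) (treeWalk T)
      else none

theorem trees_ok :
    (treeWalk tree0 (2 ^ root0)).isSome = true ∧ (treeWalk tree1 (2 ^ root1)).isSome = true ∧
    (treeWalk tree2 (2 ^ root2)).isSome = true ∧
    ((treeWalk tree0 (2 ^ root0)).getD 0 ||| (treeWalk tree1 (2 ^ root1)).getD 0 |||
      (treeWalk tree2 (2 ^ root2)).getD 0) = 2 ^ 4096 - 2 ∧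
    tree0.length = 692 ∧ tree1.length = 1385 ∧ tree2.length = 2015 := by decide +kernel

theorem act77_ok : orbit77.length = 77 ∧ perm77.length = 15 ∧
    (orbit77.all fun v => Nat.blt v (2 ^ 112)) = true ∧ orbit77.Nodup ∧
    ((List.range 15).all fun k => ((perm77.getD k []).length == 77) && (List.range 77).all fun i =>
      Nat.blt ((perm77.getD k []).getD i 0) 77 &&
        Nat.beq (rowMul (wTab (k + 5)) (orbit77.getD i 0))
          (orbit77.getD ((perm77.getD k []).getD i 0) 0)) = true ∧
    ((List.range 13).all fun q => (List.range 77).all fun i =>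
      Nat.beq (rowMul (wTab (q + 20)) (orbit77.getD i 0)) (orbit77.getD i 0)) = true := by
  decide +kernel

end CfsgLib.JankoFourInvol
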