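import Cfsg.Agent.JankoFourInvol.Letters

/-! Kernel checks of the words of the letters. -/

set_option autoImplicit false
set_option maxRecDepth 100000

namespace CfsgLib.JankoFourInvol

open CfsgLib.JankoFour

theorem words2_ok : ((List.range 13).all fun i =>
    sameProd wTab [i + 20] (wWord (i + 20))) = true := by decide +kernel

end CfsgLib.JankoFourInvol
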