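import Cfsg.Agent.JankoFourInvol.Facts
import Cfsg.Agent.JankoFour.LowerGroup
import Mathlib.GroupTheory.PGroup

/-!
Elements of prime order `11, 23, 29, 31, 37, 43` of the presented fourth Janko group by their fixed
vectors, given that the representation is faithful and the order.
-/

set_option autoImplicit false
set_option linter.style.haveILetI false

namespace CfsgLib.JankoFourInvol

open CfsgLib.JankoFour CfsgLib.JankoFourRep CfsgLib.JankoFour.Fixed Cfsg.Spor

/-- The representation is faithful and the group has the order of `J₄`. -/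
structure Hyp : Prop where
  inj : Function.Injective rep
  card : Nat.card J4 = 86775571046077562880

namespace Hyp

variable (H : Hyp)
include H

theorem finite : Finite J4 := Nat.finite_of_card_ne_zero (by rw [H.card]; norm_num)

theorem rel {v w : List ℕ} (h : (v, w) ∈ eqList) : elW v = elW w := H.inj (rep_rel h)

theorem rel_pow {k c : ℕ} (h : (List.replicate k c, []) ∈ eqList) : el c ^ k = 1 := by
  have := H.rel h
  rwa [elW_replicate, elW_nil] at this

end Hyp

theorem mem_tail {e : List ℕ × List ℕ} (h : e ∈ ([([32, 32, 32], []), (List.replicate 31 33, []),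
    (List.replicate 23 34, []), (List.replicate 29 35, []), (List.replicate 37 36, []),
    (List.replicate 43 37, []), (List.replicate 11 38, []), (List.replicate 11 39, []),
    (List.replicate 11 40, []), (List.replicate 11 51, []), ([38, 39], [39, 38]),
    ([38, 40], [40, 38]), ([39, 40], [38, 40, 39])] : List (List ℕ × List ℕ))) : e ∈ eqList := by
  unfold eqList
  exact List.mem_cons_of_mem _ (List.mem_append_right _ h)

section Prime

variable {G : Type*} [Group G] [Finite G]

/-- Subgroups of order `q` are conjugate when `q²` does not divide the order. -/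
theorem exists_conj_mem_zpowers {q : ℕ} [Fact q.Prime] {u v : G} (hu : orderOf u = q)
    (hv : orderOf v = q) (h2 : ¬ q ^ 2 ∣ Nat.card G) : ∃ k : G, k * u * k⁻¹ ∈ Subgroup.zpowers v := by
  have hq : q.Prime := Fact.out
  have hfac : (Nat.card G).factorization q = 1 := by
    refine le_antisymm ?_ (hq.factorization_pos_of_dvd Nat.card_pos.ne'
      (hu ▸ orderOf_dvd_natCard u))
    by_contra h
    exact h2 ((hq.pow_dvd_iff_le_factorization Nat.card_pos.ne').2 (by omega))
  let U := Sylow.ofCard (Subgroup.zpowers u) (by rw [Nat.card_zpowers, hu, hfac, pow_one])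
  let V := Sylow.ofCard (Subgroup.zpowers v) (by rw [Nat.card_zpowers, hv, hfac, pow_one])
  obtain ⟨k, hk⟩ := MulAction.exists_smul_eq G U V
  refine ⟨k, ?_⟩
  have h : MulAut.conj k u ∈ (V : Subgroup G) := by
    rw [← hk, Sylow.coe_subgroup_smul]
    exact Subgroup.smul_mem_pointwise_smul u (MulAut.conj k) _ (Subgroup.mem_zpowers u)
  exact h

end Prime

theorem fixNum_one' {n : ℕ} : fixNum (1 : GLV n) = 2 ^ n :=
  (Nat.card_congr (Equiv.subtypeUnivEquiv fun v => Matrix.vecMul_one v)).trans card_vec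

theorem fix_conj (k g : J4) : fixNum (rep (k * g * k⁻¹)) = fixNum (rep g) := by
  rw [map_mul, map_mul, map_inv, fixNum_conj]

theorem ne_one_of_fix {g : J4} {d : ℕ} (hd : d < 112) (hf : fixNum (rep g) = 2 ^ d) : g ≠ 1 := by
  intro e
  rw [e, map_one, fixNum_one'] at hf
  exact absurd (Nat.pow_right_injective (le_refl 2) hf) (by omega)

/-- A non-trivial power of an element of prime order fixes as many vectors. -/
theorem fix_pow {v w : J4} {q d : ℕ} (hq : q.Prime) (hv : v ^ q = 1) (hw : w ≠ 1) (j : ℕ)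
    (e : v ^ j = w) (hf : fixNum (rep v) = 2 ^ d) : fixNum (rep w) = 2 ^ d := by
  subst e
  haveI := Fact.mk hq
  have ho : orderOf v = q := orderOf_eq_prime hv fun h => hw (by rw [h, one_pow])
  have hcop : j.Coprime (orderOf v) := by
    rw [ho]
    refine ((hq.coprime_iff_not_dvd).2 fun h => hw ?_).symm
    obtain ⟨m, rfl⟩ := h
    rw [pow_mul, hv, one_pow]
  obtain ⟨m, hm⟩ := exists_pow_eq_self_of_coprime hcop
  refine le_antisymm ?_ (hf ▸ by rw [map_pow]; exact fixNum_le_pow _ j)
  calc fixNum (rep (v ^ j)) ≤ fixNum (rep (v ^ j) ^ m) := fixNum_le_pow _ m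
    _ = 2 ^ d := by rw [← map_pow, hm, hf]

/-- All elements of prime order `q` fix as many vectors when the Sylow subgroups have order `q`. -/
theorem fix_of_order [Finite J4] {u v : J4} {q d : ℕ} (hq : q.Prime) (hd : d < 112)
    (hv : v ^ q = 1) (hf : fixNum (rep v) = 2 ^ d) (hu : orderOf u = q)
    (h2 : ¬ q ^ 2 ∣ Nat.card J4) : fixNum (rep u) = 2 ^ d := by
  haveI := Fact.mk hq
  have ho : orderOf v = q := orderOf_eq_prime hv (ne_one_of_fix hd hf)
  obtain ⟨k, hk⟩ := exists_conj_mem_zpowers hu ho h2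
  obtain ⟨j, hj⟩ := (Submonoid.mem_powers_iff _ _).1
    ((mem_powers_iff_mem_zpowers).2 hk)
  have hne : k * u * k⁻¹ ≠ 1 := fun e => by
    rw [conj_eq_one_iff] at e
    rw [e, orderOf_one] at hu
    exact hq.ne_one hu.symm
  rw [← fix_conj k u]
  exact fix_pow hq hv hne j hj hf

theorem fix31 : fixNum (rep (el 33)) = 2 ^ 2 := fix_el (by norm_num) fixW33_ok

theorem fix23 : fixNum (rep (el 34)) = 2 ^ 2 := fix_el (by norm_num) fixW34_ok

theorem fix29 : fixNum (rep (el 35)) = 2 ^ 0 := fix_el (by norm_num) fixW35_ok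

theorem fix37 : fixNum (rep (el 36)) = 2 ^ 4 := fix_el (by norm_num) fixW36_ok

theorem fix43 : fixNum (rep (el 37)) = 2 ^ 0 := fix_el (by norm_num) fixW37_ok

theorem fixC : fixNum (rep (el 38)) = 2 ^ 2 := fix_el (by norm_num) fixW38_ok

theorem fix11 : fixNum (rep (el 51)) = 2 ^ 2 := fix_el (by norm_num) fixW51_ok

theorem fix_yb : ∀ r : ℕ, r < 11 → fixNum (rep (el 40 ^ r * el 39)) = 2 ^ 12 := by
  intro r hr
  have h : el 40 ^ r * el 39 = bif Nat.beq r 0 then el 39 else el (40 + r) := by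
    by_cases h0 : r = 0
    · subst h0; simp
    · have hb : Nat.beq r 0 = false := by cases r with
        | zero => exact absurd rfl h0
        | succ r => rfl
      rw [hb, cond_false]
      conv_rhs => rw [el_word (c := 40 + r) (by omega) (by omega)]
      have hw : wWord (40 + r) = List.replicate r 40 ++ [39] := by
        interval_cases r <;> first | contradiction | decide +kernel
      rw [hw]
      simp
  rw [h]
  interval_cases r <;> simp only [cond_true, cond_false, Nat.beq]
  · exact fix_el (by norm_num) fixW39_ok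
  · exact fix_el (by norm_num) fixW41_ok
  · exact fix_el (by norm_num) fixW42_ok
  · exact fix_el (by norm_num) fixW43_ok
  · exact fix_el (by norm_num) fixW44_ok
  · exact fix_el (by norm_num) fixW45_ok
  · exact fix_el (by norm_num) fixW46_ok
  · exact fix_el (by norm_num) fixW47_ok
  · exact fix_el (by norm_num) fixW48_ok
  · exact fix_el (by norm_num) fixW49_ok
  · exact fix_el (by norm_num) fixW50_ok

theorem fix_y : fixNum (rep (el 40)) = 2 ^ 12 := fix_el (by norm_num) fixW40_ok

namespace Hyp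

variable (H : Hyp)
include H

theorem pow_y : el 40 ^ 11 = 1 := H.rel_pow (mem_tail (by simp))

theorem pow_b : el 39 ^ 11 = 1 := H.rel_pow (mem_tail (by simp))

theorem pow_C : el 38 ^ 11 = 1 := H.rel_pow (mem_tail (by simp))

theorem comm_Cb : Commute (el 38) (el 39) := by
  have h := H.rel (v := [38, 39]) (w := [39, 38]) (mem_tail (by simp))
  simpa [elW, commute_iff_eq] using h

theorem comm_Cy : Commute (el 38) (el 40) := by
  have h := H.rel (v := [38, 40]) (w := [40, 38]) (mem_tail (by simp))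
  simpa [elW, commute_iff_eq] using h

theorem by_eq : el 39 * el 40 = el 38 * el 40 * el 39 := by
  have h := H.rel (v := [39, 40]) (w := [38, 40, 39]) (mem_tail (by simp))
  simpa [elW, mul_assoc] using h

theorem b_y_pow (r : ℕ) : el 39 * el 40 ^ r = el 38 ^ r * el 40 ^ r * el 39 := by
  induction r with
  | zero => simp
  | succ r ih =>
    rw [pow_succ, ← mul_assoc, ih, mul_assoc (el 38 ^ r * el 40 ^ r), H.by_eq, pow_succ]
    simp only [← mul_assoc]
    rw [mul_assoc (el 38 ^ r) (el 40 ^ r), ← ((H.comm_Cy.pow_right r).eq), ← mul_assoc]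

theorem b_pow_y_pow (j r : ℕ) :
    el 39 ^ j * el 40 ^ r = el 38 ^ (j * r) * el 40 ^ r * el 39 ^ j := by
  induction j with
  | zero => simp
  | succ j ih =>
    rw [pow_succ, mul_assoc, H.b_y_pow, mul_assoc (el 38 ^ r), ← mul_assoc (el 39 ^ j),
      ((H.comm_Cb.pow_left r).pow_right j).symm.eq, mul_assoc, ← mul_assoc (el 39 ^ j), ih,
      add_mul, one_mul, add_comm (j * r), pow_add]
    simp only [mul_assoc]

/-- The normal forms. -/
theorem mul_form (i j k i' j' k' : ℕ) :
    (el 40 ^ i * el 39 ^ j * el 38 ^ k) * (el 40 ^ i' * el 39 ^ j' * el 38 ^ k') =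
      el 40 ^ (i + i') * el 39 ^ (j + j') * el 38 ^ (k + k' + j * i') := by
  have hy : ∀ a b, Commute (el 38 ^ a) (el 40 ^ b) := fun a b => H.comm_Cy.pow_pow a b
  have hb : ∀ a b, Commute (el 38 ^ a) (el 39 ^ b) := fun a b => H.comm_Cb.pow_pow a b
  calc _ = el 40 ^ i * (el 39 ^ j * (el 38 ^ k * el 40 ^ i')) * el 39 ^ j' * el 38 ^ k' := by
        simp only [mul_assoc]
    _ = el 40 ^ i * (el 39 ^ j * el 40 ^ i') * (el 38 ^ k * el 39 ^ j') * el 38 ^ k' := by
        rw [(hy k i').eq]; simp only [mul_assoc]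
    _ = el 40 ^ i * (el 38 ^ (j * i') * el 40 ^ i' * el 39 ^ j) * (el 39 ^ j' * el 38 ^ k) *
        el 38 ^ k' := by rw [H.b_pow_y_pow, (hb k j').eq]
    _ = el 40 ^ i * el 40 ^ i' * (el 38 ^ (j * i') * (el 39 ^ j * el 39 ^ j')) *
        (el 38 ^ k * el 38 ^ k') := by rw [(hy (j * i') i').eq]; simp only [mul_assoc]
    _ = _ := by
        rw [← pow_add, ← pow_add, ← pow_add, (hb (j * i') (j + j')).eq, mul_assoc, mul_assoc,
          ← pow_add, ← mul_assoc, add_comm (j * i')]

/-- A Sylow subgroup for the prime eleven with its normal forms. -/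
theorem exists_sylow : ∃ P : Subgroup J4, Nat.card P = 1331 ∧
    (∀ g ∈ P, ∃ i j k, g = el 40 ^ i * el 39 ^ j * el 38 ^ k) ∧
    el 38 ∈ P ∧ el 39 ∈ P ∧ el 40 ∈ P := by
  haveI := H.finite
  let T : Submonoid J4 :=
    { carrier := {g | ∃ i j k, g = el 40 ^ i * el 39 ^ j * el 38 ^ k}
      one_mem' := ⟨0, 0, 0, by simp⟩
      mul_mem' := by
        rintro _ _ ⟨i, j, k, rfl⟩ ⟨i', j', k', rfl⟩
        exact ⟨_, _, _, H.mul_form i j k i' j' k'⟩ }
  let P : Subgroup J4 :=
    { T with
      inv_mem' := by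
        intro g hg
        obtain ⟨n, hn, e⟩ := (isOfFinOrder_of_finite g).exists_pow_eq_one
        rw [show g⁻¹ = g ^ (n - 1) from inv_eq_of_mul_eq_one_right (by
          rw [← pow_succ', Nat.sub_add_cancel hn, e])]
        exact T.pow_mem hg _ }
  have hy : el 40 ∈ P := ⟨1, 0, 0, by simp⟩
  have hb : el 39 ∈ P := ⟨0, 1, 0, by simp⟩
  have hC : el 38 ∈ P := ⟨0, 0, 1, by simp⟩
  refine ⟨P, le_antisymm ?_ ?_, fun g hg => hg, hC, hb, hy⟩
  · let f : Fin 11 × Fin 11 × Fin 11 → P := fun t =>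
      ⟨el 40 ^ t.1.val * el 39 ^ t.2.1.val * el 38 ^ t.2.2.val, _, _, _, rfl⟩
    refine (Nat.card_le_card_of_surjective f ?_).trans (by simp)
    rintro ⟨_, i, j, k, rfl⟩
    refine ⟨(⟨i % 11, Nat.mod_lt _ (by norm_num)⟩, ⟨j % 11, Nat.mod_lt _ (by norm_num)⟩,
      ⟨k % 11, Nat.mod_lt _ (by norm_num)⟩), Subtype.ext ?_⟩
    show el 40 ^ (i % 11) * el 39 ^ (j % 11) * el 38 ^ (k % 11) = _
    rw [← pow_eq_pow_mod i H.pow_y, ← pow_eq_pow_mod j H.pow_b, ← pow_eq_pow_mod k H.pow_C]
  · have h := cube_dvd_card (G := P) (p := 11) (by norm_num) (y := ⟨el 40, hy⟩) (b := ⟨el 39, hb⟩)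
      (C := ⟨el 38, hC⟩) (Subtype.ext (mul_inv_eq_iff_eq_mul.2 H.by_eq)) (Subtype.ext H.pow_y)
      (Subtype.ext H.comm_Cy.eq) (Subtype.ext H.comm_Cb.eq)
      (fun e => ne_one_of_fix (d := 2) (by norm_num) fixC (congrArg Subtype.val e))
    exact le_trans (by norm_num) (Nat.le_of_dvd Nat.card_pos h)

/-- Outside the centre of the Sylow subgroup the elements fix `2 ^ 12` vectors. -/
theorem fix_noncentral {i j k : ℕ} (h : ¬ (11 ∣ i ∧ 11 ∣ j)) :
    fixNum (rep (el 40 ^ i * el 39 ^ j * el 38 ^ k)) = 2 ^ 12 := by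
  haveI := H.finite
  haveI : Fact (Nat.Prime 11) := ⟨by norm_num⟩
  have hsolve : ∀ a b : ℕ, ¬ 11 ∣ a → ∃ r < 11, r * a % 11 = b % 11 := by
    intro a b ha
    have : ∀ a < 11, 0 < a → ∀ b < 11, ∃ r < 11, r * a % 11 = b := by decide
    obtain ⟨r, hr, e⟩ := this (a % 11) (Nat.mod_lt _ (by norm_num)) (by omega) (b % 11)
      (Nat.mod_lt _ (by norm_num))
    exact ⟨r, hr, by rw [Nat.mul_mod]; simpa [Nat.mul_mod] using e⟩
  have modC : ∀ a b : ℕ, a % 11 = b % 11 → el 38 ^ a = el 38 ^ b := fun a b e => by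
    rw [pow_eq_pow_mod a H.pow_C, e, ← pow_eq_pow_mod b H.pow_C]
  -- moving the exponent of the centre by conjugation
  have hshift : ∀ (m a b c : ℕ), (el 39 ^ m) * (el 40 ^ a * el 39 ^ b * el 38 ^ c) * (el 39 ^ m)⁻¹ =
      el 40 ^ a * el 39 ^ b * el 38 ^ (c + m * a) := by
    intro m a b c
    rw [mul_inv_eq_iff_eq_mul]
    have e1 := H.mul_form 0 m 0 a b c
    have e2 := H.mul_form a b (c + m * a) 0 m 0
    simp only [pow_zero, one_mul, mul_one, zero_add, add_zero, mul_zero] at e1 e2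
    rw [e1, e2, Nat.add_comm m b]
  have hshift' : ∀ (m a b c : ℕ), (el 40 ^ m) * (el 40 ^ a * el 39 ^ b * el 38 ^ (c + b * m)) *
      (el 40 ^ m)⁻¹ = el 40 ^ a * el 39 ^ b * el 38 ^ c := by
    intro m a b c
    rw [mul_inv_eq_iff_eq_mul]
    have e1 := H.mul_form m 0 0 a b (c + b * m)
    have e2 := H.mul_form a b c m 0 0
    simp only [pow_zero, one_mul, mul_one, zero_add, add_zero, zero_mul] at e1 e2
    rw [e1, e2, Nat.add_comm m a]
  by_cases hj : 11 ∣ j
  · have hi : ¬ 11 ∣ i := fun hi => h ⟨hi, hj⟩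
    obtain ⟨m, -, hm⟩ := hsolve i k hi
    have e : el 40 ^ i * el 39 ^ j * el 38 ^ k = (el 39 ^ m) * el 40 ^ i * (el 39 ^ m)⁻¹ := by
      have hb : el 39 ^ j = 1 := by
        obtain ⟨t, rfl⟩ := hj
        rw [pow_mul, H.pow_b, one_pow]
      have := hshift m i 0 0
      simp only [pow_zero, mul_one, zero_add] at this
      rw [this, hb, mul_one, modC k (m * i) hm.symm]
    rw [e, fix_conj]
    refine fix_pow (by norm_num) H.pow_y (fun e1 => hi ?_) i rfl fix_y
    have ho : orderOf (el 40) = 11 := orderOf_eq_prime H.pow_y (ne_one_of_fix (by norm_num) fix_y)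
    rw [← ho]
    exact orderOf_dvd_of_pow_eq_one e1
  · obtain ⟨r, hr, hrj⟩ := hsolve j i hj
    have hpow : ∀ n : ℕ, ∃ g, (el 40 ^ r * el 39) ^ n = el 40 ^ (r * n) * el 39 ^ n * el 38 ^ g ∧
        2 * g + r * n = r * n * n := by
      intro n
      induction n with
      | zero => exact ⟨0, by simp, by simp⟩
      | succ n ih =>
        obtain ⟨g, hg, hg'⟩ := ih
        refine ⟨g + n * r, ?_, by nlinarith⟩
        rw [pow_succ, hg]
        simpa [Nat.mul_succ] using H.mul_form (r * n) n g r 1 0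
    have h11 : (el 40 ^ r * el 39) ^ 11 = 1 := by
      obtain ⟨g, hg, hg'⟩ := hpow 11
      rw [hg, H.pow_b, mul_one, mul_comm r, pow_mul, H.pow_y, one_pow, one_mul,
        show g = 11 * (5 * r) by omega, pow_mul, H.pow_C, one_pow]
    have hne : (el 40 ^ r * el 39) ^ j ≠ 1 := fun e1 => hj (by
      rw [← orderOf_eq_prime h11 (ne_one_of_fix (d := 12) (by norm_num) (fix_yb r hr))]
      exact orderOf_dvd_of_pow_eq_one e1)
    obtain ⟨f, hf, -⟩ := hpow j
    obtain ⟨m, -, hm⟩ := hsolve j (f + 11 * k - k) hj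
    have e : el 40 ^ m * (el 40 ^ r * el 39) ^ j * (el 40 ^ m)⁻¹ =
        el 40 ^ i * el 39 ^ j * el 38 ^ k := by
      rw [hf, pow_eq_pow_mod (r * j) H.pow_y, hrj, ← pow_eq_pow_mod i H.pow_y,
        modC f (k + j * m) (by rw [Nat.mul_comm] at hm; omega), hshift']
    rw [← e, fix_conj]
    exact fix_pow (q := 11) (by norm_num) h11 hne j rfl (fix_yb r hr)

end Hyp

end CfsgLib.JankoFourInvol
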