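import Cfsg.Agent.JankoFourInvol.CheckWords1
import Cfsg.Agent.JankoFourInvol.CheckWords2
import Cfsg.Agent.JankoFourInvol.CheckWords3
import Cfsg.Agent.JankoFourInvol.CheckEq
import Cfsg.Agent.JankoFourInvol.CheckFix
import Cfsg.Agent.JankoFourInvol.CheckTables

/-!
The letters in the matrices of degree 112, and the data of the involution `z`.
-/

set_option autoImplicit false
set_option maxRecDepth 100000

namespace CfsgLib.JankoFourInvol

open Matrix CfsgLib.JankoFour CfsgLib.JankoFourRep CfsgLib.JankoFour.Fixed Cfsg.Spor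

theorem word_ok {c : ℕ} (hc : c < 52) (h4 : 4 ≤ c) : sameProd wTab [c] (wWord c) = true := by
  have h1 := List.all_eq_true.1 words1_ok
  have h2 := List.all_eq_true.1 words2_ok
  have h3 := List.all_eq_true.1 words3_ok
  rcases Nat.lt_or_ge c 20 with h | h
  · simpa [show c - 4 + 4 = c by omega] using h1 (c - 4) (List.mem_range.2 (by omega))
  rcases Nat.lt_or_ge c 33 with h' | h'
  · simpa [show c - 20 + 20 = c by omega] using h2 (c - 20) (List.mem_range.2 (by omega))
  · simpa [show c - 33 + 33 = c by omega] using h3 (c - 33) (List.mem_range.2 (by omega))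

theorem rep_elF_zero {c : ℕ} (hc : c < 4) : (rep (elF 0 c)).val = toMat (wTab c) := by
  rw [wTab, blt_four' hc, cond_true]
  interval_cases c
  · rw [show elF 0 0 = xJ by simp [elF], show xJ = PresentedGroup.of J4.Gen.x from rfl, rep_of]; rfl
  · rw [show elF 0 1 = yJ by simp [elF], show yJ = PresentedGroup.of J4.Gen.y from rfl, rep_of]; rfl
  · rw [show elF 0 2 = yJ⁻¹ by simp [elF], map_inv, show yJ = PresentedGroup.of J4.Gen.y from rfl, rep_of]
    rfl
  · rw [show elF 0 3 = tJ by simp [elF], show tJ = PresentedGroup.of J4.Gen.t from rfl, rep_of]; rfl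

theorem rep_prod_of {v : ℕ → J4} {M : ℕ → List ℕ} (w : List ℕ)
    (h : ∀ c ∈ w, (rep (v c)).val = toMat (M c)) :
    (rep ((w.map v).prod)).val = (w.map fun c => toMat (M c)).prod := by
  rw [map_list_prod, ← Units.coeHom_apply, map_list_prod, List.map_map, List.map_map]
  exact congrArg List.prod (List.map_congr_left h)

theorem rep_elF : ∀ (f c : ℕ), c < 52 → lvl c ≤ f → (rep (elF f c)).val = toMat (wTab c)
  | f, c, hc, hl => by
    by_cases h4 : c < 4
    · rw [elF_base f h4]; exact rep_elF_zero h4
    · have h4' : 4 ≤ c := by omega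
      cases f with
      | zero =>
        rw [lvl, blt_four h4', cond_false] at hl
        revert hl
        cases Nat.blt c 20 <;> cases Nat.blt c 33 <;> cases Nat.blt c 41 <;> simp
      | succ f =>
        rw [elF_succ, blt_four h4', cond_false, rep_prod_of _ fun a ha =>
          rep_elF f a (lvl_ok c hc h4' a ha).1 (by have := (lvl_ok c hc h4' a ha).2; omega)]
        have h := prod_eq_of_sameProd wTab_good (word_ok hc h4')
        simpa using h.symm
termination_by f => f

theorem rep_el {c : ℕ} (hc : c < 52) : (rep (el c)).val = toMat (wTab c) :=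
  rep_elF 2 c hc (lvl_le c hc)

/-- A word in the letters. -/
noncomputable def elW (w : List ℕ) : J4 := (w.map el).prod

theorem elW_nil : elW [] = 1 := rfl

theorem elW_cons (c : ℕ) (w : List ℕ) : elW (c :: w) = el c * elW w := by simp [elW]

theorem elW_append (v w : List ℕ) : elW (v ++ w) = elW v * elW w := by simp [elW]

theorem elW_singleton (c : ℕ) : elW [c] = el c := by simp [elW]

theorem elW_replicate (k c : ℕ) : elW (List.replicate k c) = el c ^ k := by simp [elW]

theorem eqList_lt : ∀ e ∈ eqList, (∀ c ∈ e.1, c < 52) ∧ ∀ c ∈ e.2, c < 52 := by decide +kernel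

theorem rep_rel {v w : List ℕ} (h : (v, w) ∈ eqList) : rep (elW v) = rep (elW w) := Units.ext (by
  rw [elW, elW, rep_prod_of v fun c hc => rep_el ((eqList_lt _ h).1 c hc),
    rep_prod_of w fun c hc => rep_el ((eqList_lt _ h).2 c hc)]
  exact prod_eq_of_sameProd wTab_good (List.all_eq_true.1 eqList_ok (v, w) h))

theorem toMat_eq_rect (A : List ℕ) : toMat A = rect 112 112 A := rfl

/-- The number of fixed vectors of a letter. -/
theorem fix_el {c k : ℕ} (hc : c < 52) {K R S : List ℕ}
    (h : certOk 112 (wTab c) K R S = true ∧ K.length = k) : fixNum (rep (el c)) = 2 ^ k :=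
  h.2 ▸ fixNum_of_cert ((rep_el hc).trans (toMat_eq_rect _)) h.1

theorem vecOf_two_pow (i : Fin 112) : vecOf (2 ^ i.val) = Pi.single i 1 := by
  funext k
  by_cases hk : i = k
  · subst hk; simp [vecOf, bit, Nat.testBit_two_pow]
  · simp [vecOf, bit, Nat.testBit_two_pow, Fin.val_ne_of_ne hk, Pi.single_apply, Ne.symm hk]

theorem nRows_eq : toMat nRows = toMat (wTab 4) + 1 := by
  ext i j
  have hi : nRows.getD i.val 0 = (wTab 4).getD i.val 0 ^^^ 2 ^ i.val := by
    simp [nRows, nRow, List.getD_eq_getElem?_getD, List.getElem?_map, List.getElem?_range i.isLt]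
  show bit (nRows.getD i.val 0) j.val = bit ((wTab 4).getD i.val 0) j.val + (1 : Mat) i j
  rw [hi, bit_xor, bit_two_pow, Matrix.one_apply]
  simp [Fin.ext_iff]

/-- The involution's data. -/
def zData : SplitData 112 12 where
  N := toMat nRows
  P := rect 112 12 projM
  L := rect 12 112 liftM
  X := rect 112 112 compM
  Y := rect 112 112 compM
  nn := by
    obtain ⟨⟨-, -, -, hn⟩, -, -, h⟩ := split_ok
    ext i j
    have := List.all_eq_true.1 h i.val (List.mem_range.2 i.isLt)
    rw [Bool.and_eq_true] at this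
    rw [toMat_eq_rect, rect_mul hn, Matrix.of_apply, Nat.eq_of_beq_eq_true this.1, bit_zero]
    rfl
  ln := by
    obtain ⟨⟨-, -, -, hn⟩, -, h, -⟩ := split_ok
    ext i j
    have := List.all_eq_true.1 h i.val (List.mem_range.2 i.isLt)
    rw [Bool.and_eq_true] at this
    rw [toMat_eq_rect, rect_mul hn, Matrix.of_apply, Nat.eq_of_beq_eq_true this.1, bit_zero]
    rfl
  np := by
    obtain ⟨⟨-, hp, -, -⟩, -, -, h⟩ := split_ok
    ext i j
    have := List.all_eq_true.1 h i.val (List.mem_range.2 i.isLt)
    rw [Bool.and_eq_true] at this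
    rw [toMat_eq_rect, rect_mul hp, Matrix.of_apply, Nat.eq_of_beq_eq_true this.2, bit_zero]
    rfl
  lp := by
    obtain ⟨⟨-, hp, -, -⟩, -, h, -⟩ := split_ok
    ext i j
    have := List.all_eq_true.1 h i.val (List.mem_range.2 i.isLt)
    rw [Bool.and_eq_true] at this
    rw [rect_mul hp, Matrix.of_apply, Nat.eq_of_beq_eq_true this.2, bit_two_pow, Matrix.one_apply]
    simp [Fin.ext_iff]
  split := by
    obtain ⟨⟨hl, -, hc, hn⟩, h, -, -⟩ := split_ok
    ext i j
    have := Nat.eq_of_beq_eq_true (List.all_eq_true.1 h i.val (List.mem_range.2 i.isLt))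
    rw [Matrix.add_apply, Matrix.add_apply, toMat_eq_rect, rect_mul hl, rect_mul hc, rect_mul hn]
    simp only [Matrix.of_apply]
    rw [← bit_xor, ← bit_xor, Nat.xor_assoc] at *
    rw [this, bit_two_pow, Matrix.one_apply]
    simp [Fin.ext_iff]

end CfsgLib.JankoFourInvol
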