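import Cfsg.Agent.JankoFourInvol.Main
import Cfsg.Agent.JankoFour.Simple

/-!
The centraliser statement for the presented fourth Janko group.
-/

set_option autoImplicit false

namespace CfsgLib.JankoFourInvol

open Cfsg

/-- The presented group has an involution with centraliser `2 ^ (1 + 12) . 3 . M₂₂ . 2`, given its
order and the faithfulness of the representation. -/
theorem exists_centralizer (H : Hyp) :
    ∃ z : Spor.J4, orderOf z = 2 ∧
      ∃ (Q N M : Subgroup (Subgroup.centralizer ({z} : Set Spor.J4))), Q.Normal ∧ N.Normal ∧ Q ≤ N ∧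
        N ≤ M ∧ Nat.card Q = 2 ^ 13 ∧ IsExtraspecial 2 Q ∧ Nat.card N = 3 * 2 ^ 13 ∧ M.index = 2 ∧
        ∃ (_ : (N.subgroupOf M).Normal), IsM22 (M ⧸ N.subgroupOf M) :=
  ⟨zJ, H.orderOf_z, H.structure_cen⟩

end CfsgLib.JankoFourInvol
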