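import Cfsg.Agent.JankoFourInvol.Bound
import Cfsg.Agent.JankoFourInvol.Action
import Cfsg.Prelude.Def_Sporadic

/-!
The structure of the centraliser of the involution.
-/

set_option autoImplicit false
set_option linter.style.haveILetI false

namespace CfsgLib.JankoFourInvol

open CfsgLib.JankoFour CfsgLib.JankoFourRep Cfsg Cfsg.Spor

/-- The counting in the generated group. -/
theorem Hyp.count (H : Hyp) : Nat.card phi.range = 887040 ∧ phi.ker = nGrp.subgroupOf kGrp ∧
    kGrp = cenZ := by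
  haveI := H.finite
  have h := Subgroup.card_mul_index phi.ker
  rw [Subgroup.index_ker] at h
  have hN : Nat.card (nGrp.subgroupOf kGrp) = 24576 := by
    rw [Nat.card_congr (Subgroup.subgroupOfEquivOfLe H.n_le_k).toEquiv, H.card_n]; norm_num
  have hk : 24576 ≤ Nat.card phi.ker := hN ▸ Subgroup.card_le_of_le (n_le_ker H)
  have hr := card_range_ge
  have hle : Nat.card kGrp ≤ Nat.card cenZ := Subgroup.card_le_of_le H.k_le
  have hC : Nat.card cenZ ≤ 21799895040 := Nat.le_of_dvd (by norm_num) H.card_dvd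
  have hr' : Nat.card phi.range = 887040 := by
    by_contra hne
    have : 24576 * 887041 ≤ Nat.card phi.ker * Nat.card phi.range := Nat.mul_le_mul hk (by omega)
    omega
  refine ⟨hr', ?_, ?_⟩
  · refine (Subgroup.eq_of_le_of_card_ge (n_le_ker H) ?_).symm
    rw [hN]
    rw [hr'] at h
    omega
  · refine Subgroup.eq_of_le_of_card_ge H.k_le ?_
    have : 24576 * 887040 ≤ Nat.card phi.ker * Nat.card phi.range := Nat.mul_le_mul hk hr
    omega

/-- The centraliser of the involution has the shape `2 ^ (1 + 12) . 3 . M₂₂ . 2`. -/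
theorem Hyp.structure_cen (H : Hyp) :
    ∃ (Q N M : Subgroup cenZ), Q.Normal ∧ N.Normal ∧ Q ≤ N ∧ N ≤ M ∧ Nat.card Q = 2 ^ 13 ∧
      IsExtraspecial 2 Q ∧ Nat.card N = 3 * 2 ^ 13 ∧ M.index = 2 ∧
      ∃ (_ : (N.subgroupOf M).Normal), IsM22 (M ⧸ N.subgroupOf M) := by
  haveI := H.finite
  obtain ⟨hr, hker, hK⟩ := H.count
  let e : cenZ →* kGrp := Subgroup.inclusion hK.ge
  have hsurj : Function.Surjective e := fun x => ⟨⟨x.1, H.k_le x.2⟩, Subtype.ext rfl⟩
  let ψ : cenZ →* phi.range := phi.rangeRestrict.comp e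
  have hψ : Function.Surjective ψ := phi.rangeRestrict_surjective.comp hsurj
  have hψk : ψ.ker = nGrp.subgroupOf cenZ := by
    ext x
    rw [Subgroup.mem_subgroupOf, MonoidHom.mem_ker]
    constructor
    · intro h
      have h2 : e x ∈ phi.ker := congrArg Subtype.val h
      rw [hker] at h2
      exact h2
    · intro h
      have h2 : e x ∈ phi.ker := by rw [hker]; exact h
      exact Subtype.ext h2
  haveI hNn : (nGrp.subgroupOf cenZ).Normal := hψk ▸ MonoidHom.normal_ker ψ
  have hQle : qGrp ≤ cenZ := H.q_le_cenZ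
  have hNle : nGrp ≤ cenZ := H.n_le_k.trans H.k_le
  have hQn : (qGrp.subgroupOf cenZ).Normal := ⟨fun x hx g => by
    rw [Subgroup.mem_subgroupOf] at hx ⊢
    have hxN : x ∈ nGrp.subgroupOf cenZ :=
      Subgroup.mem_subgroupOf.2 (Subgroup.mem_sup_left hx)
    refine H.mem_q_of_pow_four (Subgroup.mem_subgroupOf.1 (hNn.conj_mem x hxN g)) ?_
    show (g.1 * x.1 * g.1⁻¹) ^ 4 = 1
    rw [conj_pow, H.pow_four hx, mul_one, mul_inv_cancel]⟩
  have hQeq := Subgroup.subgroupOfEquivOfLe hQle
  haveI hi : IsSimpleGroup Spor.M22 := CfsgLib.Mathieu.simple_SporM22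
  let R : Subgroup phi.range := iota.range.subgroupOf phi.range
  let M : Subgroup cenZ := R.comap ψ
  have hRc : Nat.card R = 443520 := by
    rw [Nat.card_congr (Subgroup.subgroupOfEquivOfLe iota_range_le).toEquiv,
      ← CfsgLib.Mathieu.card_SporM22]
    exact (Nat.card_congr (MonoidHom.ofInjective iota_injective).toEquiv).symm
  have hMi : M.index = 2 := by
    rw [Subgroup.index_comap_of_surjective _ hψ]
    have h := R.card_mul_index
    rw [hRc, hr] at h
    omega
  have hNM : nGrp.subgroupOf cenZ ≤ M := fun x hx => by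
    rw [← hψk] at hx
    show ψ x ∈ R
    rw [MonoidHom.mem_ker.1 hx]
    exact R.one_mem
  refine ⟨qGrp.subgroupOf cenZ, nGrp.subgroupOf cenZ, M, hQn, hNn,
    Subgroup.comap_mono le_sup_left, hNM, ?_, ?_, ?_, hMi, inferInstance, ?_⟩
  · rw [Nat.card_congr hQeq.toEquiv, H.card_q]
  · have hz : zJ ∈ cenZ := H.z_mem_cenZ
    refine CfsgLib.FGS74.Cubic.isExtraspecial_of
      (IsPGroup.of_card (n := 13) (by rw [Nat.card_congr hQeq.toEquiv, H.card_q]))
      (z := ⟨zJ, hz⟩) z_mem_q (Subtype.ext H.z_sq) (fun e => H.z_ne (congrArg Subtype.val e))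
      (fun t ht => Subtype.ext (H.z_central t.1 ht)) (fun x hx => ?_) (fun x hx h => ?_) ?_
    · have h2 : (⟨x.1, hx⟩ * ⟨x.1, hx⟩ : qGrp) ∈ H.psi.ker := by
        rw [MonoidHom.mem_ker, map_mul]
        funext j
        rw [Pi.mul_apply, Pi.one_apply, ← pow_two, ← H.card_zz, pow_card_eq_one']
      exact (H.ker_psi h2).imp (fun e => Subtype.ext e) fun e => Subtype.ext e
    · refine (H.ker_psi (x := ⟨x.1, hx⟩) (funext fun j => Subtype.ext ?_)).imp
        (fun e => Subtype.ext e) fun e => Subtype.ext e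
      have := congrArg Subtype.val (h ⟨qJ j, hQle (q_mem_q j)⟩ (q_mem_q j))
      rw [H.psi_apply]
      show x.1 * qJ j * x.1⁻¹ * (qJ j)⁻¹ = _
      rw [show x.1 * qJ j = qJ j * x.1 from this, mul_inv_cancel_right, mul_inv_cancel]; rfl
    · refine ⟨⟨qJ 0, hQle (q_mem_q 0)⟩, q_mem_q 0, ⟨qJ 1, hQle (q_mem_q 1)⟩, q_mem_q 1,
        fun e => H.z_ne ?_⟩
      have h1 := H.qq 0 1
      rw [show qJ 0 * qJ 1 = qJ 1 * qJ 0 from congrArg Subtype.val e, mul_inv_cancel_right,
        if_pos (by decide)] at h1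
      simpa using h1.symm
  · rw [Nat.card_congr (Subgroup.subgroupOfEquivOfLe hNle).toEquiv, H.card_n]
  · let f : M →* R := (ψ.comp M.subtype).codRestrict R fun x => x.2
    have hf : Function.Surjective f := fun r => by
      obtain ⟨x, hx⟩ := hψ r.1
      exact ⟨⟨x, show ψ x ∈ R by rw [hx]; exact r.2⟩, Subtype.ext hx⟩
    have hfk : f.ker = (nGrp.subgroupOf cenZ).subgroupOf M := by
      rw [← hψk]
      ext x
      rw [Subgroup.mem_subgroupOf, MonoidHom.mem_ker, MonoidHom.mem_ker]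
      exact ⟨fun h => congrArg Subtype.val h, fun h => Subtype.ext h⟩
    let g : (M ⧸ (nGrp.subgroupOf cenZ).subgroupOf M) ≃* Spor.M22 :=
      ((QuotientGroup.quotientMulEquivOfEq hfk.symm).trans
        (QuotientGroup.quotientKerEquivOfSurjective f hf)).trans
      ((Subgroup.subgroupOfEquivOfLe iota_range_le).trans (MonoidHom.ofInjective iota_injective).symm)
    exact ⟨g.isSimpleGroup, (Nat.card_congr g.toEquiv).trans CfsgLib.Mathieu.card_SporM22⟩

end CfsgLib.JankoFourInvol
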