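import Cfsg.Agent.JankoFourInvol.Split

/-!
An element of order 11 with only four fixed vectors does not commute with an involution and an
element of order 31, shown on the image of an idempotent of the latter.
-/

set_option autoImplicit false

namespace CfsgLib.JankoFourInvol

open Matrix Finset CfsgLib.JankoFour.Fixed CfsgLib.JankoFourRep

variable {n : ℕ}

/-- Multiplication by a matrix as an additive map. -/
def mulHom {k : ℕ} (A : Matrix (Fin n) (Fin k) (ZMod 2)) : Vec n →+ Vec k where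
  toFun v := v ᵥ* A
  map_zero' := Matrix.zero_vecMul _
  map_add' a b := Matrix.add_vecMul _ _ _

theorem exp_le {a b : ℕ} (h : 2 ^ a ≤ 2 ^ b) : a ≤ b := (Nat.pow_le_pow_iff_right (by norm_num)).1 h

theorem arith31 : ∀ i, i ≤ 7 → 2 ≤ i → 2 ^ i % 31 = 1 % 31 → i = 5 := by decide

theorem arith11a : ∀ g, g ≤ 5 → 2 ^ 5 % 11 = 2 ^ g % 11 → g = 5 := by decide

theorem arith11b : ∀ f, f ≤ 15 → 10 ≤ f → 2 ^ 15 % 11 = 2 ^ f % 11 → f = 15 := by decide

/-- The contradiction. -/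
theorem no_commuting_triple {u y : GLV n} {N E : Matrix (Fin n) (Fin n) (ZMod 2)} {a : ℕ}
    (hn : n = 112) (hNN : N * N = 0) (hN : Nat.card (mulHom N).range = 2 ^ a) (ha : 50 ≤ a)
    (hE : E * E = E) (hE15 : Nat.card (mulHom E).range = 2 ^ 15)
    (hfree : ∀ v : Vec n, v ᵥ* E = v → v ᵥ* u.val = v → v = 0)
    (hu31 : u ^ 31 = 1) (huN : Commute u.val N) (huE : Commute u.val E) (hNE : Commute N E)
    (hy11 : y ^ 11 = 1) (hyN : Commute y.val N) (hyE : Commute y.val E)
    (hy : fixNum y ≤ 2 ^ 2) : False := by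
  classical
  haveI : Fact (Nat.Prime 31) := ⟨by norm_num⟩
  haveI : Fact (Nat.Prime 11) := ⟨by norm_num⟩
  set W1 := (mulHom E).range
  set W2 := (mulHom E).ker
  have hW1 : ∀ v, v ∈ W1 ↔ v ᵥ* E = v := by
    intro v
    constructor
    · rintro ⟨w, rfl⟩
      show w ᵥ* E ᵥ* E = w ᵥ* E
      rw [Matrix.vecMul_vecMul, hE]
    · exact fun h => ⟨v, h⟩
  have hW2 : Nat.card W2 = 2 ^ 97 := by
    have h := card_ker_mul_range (mulHom E)
    rw [hE15, card_vec, show (2 : ℕ) ^ n = 2 ^ 97 * 2 ^ 15 by rw [hn, ← pow_add]] at h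
    exact (Nat.eq_of_mul_eq_mul_right (by positivity) h).symm
  have comm : ∀ (v : Vec n), v ᵥ* N ᵥ* E = v ᵥ* E ᵥ* N := fun v => by
    rw [Matrix.vecMul_vecMul, Matrix.vecMul_vecMul, hNE.eq]
  set I1 := W1.map (mulHom N)
  set I2 := W2.map (mulHom N)
  have sq : ∀ (W : AddSubgroup (Vec n)), (∀ v ∈ W, v ᵥ* N ∈ W) →
      Nat.card (W.map (mulHom N)) ^ 2 ≤ Nat.card W := by
    intro W hW
    let f : W →+ Vec n := (mulHom N).comp W.subtype
    have hr : Nat.card f.range = Nat.card (W.map (mulHom N)) := by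
      rw [AddMonoidHom.range_comp, AddSubgroup.range_subtype]
    have hle : Nat.card (W.map (mulHom N)) ≤ Nat.card f.ker :=
      Nat.card_le_card_of_injective (fun r => ⟨⟨r.1, by
          obtain ⟨w, hw, e⟩ := r.2; exact e ▸ hW w hw⟩, by
          obtain ⟨w, hw, e⟩ := r.2
          show r.1 ᵥ* N = 0
          rw [← e]
          show w ᵥ* N ᵥ* N = 0
          rw [Matrix.vecMul_vecMul, hNN, Matrix.vecMul_zero]⟩)
        fun r s e => Subtype.ext (congrArg (fun t : f.ker => t.1.1) e)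
    rw [card_ker_mul_range f, hr, pow_two]
    exact Nat.mul_le_mul_right _ hle
  have hI1 := sq W1 fun v hv => (hW1 _).2 (by rw [comm, (hW1 v).1 hv])
  have hI2 := sq W2 fun v hv => by
    show v ᵥ* N ᵥ* E = 0
    rw [comm, show v ᵥ* E = 0 from hv, Matrix.zero_vecMul]
  rw [hE15] at hI1
  rw [hW2] at hI2
  obtain ⟨i1, -, hi1⟩ := card_sub I1
  obtain ⟨i2, -, hi2⟩ := card_sub I2
  rw [hi1, ← pow_mul] at hI1
  rw [hi2, ← pow_mul] at hI2
  have b1 := exp_le hI1
  have b2 := exp_le hI2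
  have hsum : a ≤ i1 + i2 := by
    refine exp_le ?_
    rw [pow_add, ← hi1, ← hi2, ← hN, ← Nat.card_prod]
    refine Nat.card_le_card_of_injective (fun r => (⟨r.1 ᵥ* E, by
        obtain ⟨w, e⟩ := r.2
        refine ⟨w ᵥ* E, ⟨w, rfl⟩, ?_⟩
        show w ᵥ* E ᵥ* N = r.1 ᵥ* E
        rw [← e, ← comm]; rfl⟩, ⟨r.1 - r.1 ᵥ* E, by
        obtain ⟨w, e⟩ := r.2
        refine ⟨w - w ᵥ* E, ?_, ?_⟩
        · show (w - w ᵥ* E) ᵥ* E = 0
          rw [Matrix.sub_vecMul, Matrix.vecMul_vecMul, hE, sub_self]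
        · show (w - w ᵥ* E) ᵥ* N = r.1 - r.1 ᵥ* E
          rw [← e, Matrix.sub_vecMul, ← comm]; rfl⟩)) fun r s e => ?_
    have e1 := congrArg (fun t : I1 × I2 => t.1.1) e
    have e2 := congrArg (fun t : I1 × I2 => t.2.1) e
    simp only at e1 e2
    rw [e1, sub_left_inj] at e2
    exact Subtype.ext e2
  have memI1 : ∀ (c : GLV n), Commute c.val N → Commute c.val E → ∀ r ∈ I1, r ᵥ* c.val ∈ I1 := by
    rintro c hcN hcE _ ⟨w, hw, rfl⟩
    refine ⟨w ᵥ* c.val, (hW1 _).2 ?_, ?_⟩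
    · rw [Matrix.vecMul_vecMul, hcE.eq, ← Matrix.vecMul_vecMul, (hW1 w).1 hw]
    · show w ᵥ* c.val ᵥ* N = w ᵥ* N ᵥ* c.val
      rw [Matrix.vecMul_vecMul, hcN.eq, ← Matrix.vecMul_vecMul]
  have hI1W : ∀ r ∈ I1, r ᵥ* E = r := by
    rintro _ ⟨w, hw, rfl⟩
    show w ᵥ* N ᵥ* E = w ᵥ* N
    rw [comm, (hW1 w).1 hw]
  have h31 : 2 ^ i1 % 31 = 1 % 31 := by
    have h := set_modEq (p := 31) hu31 (fun v => v ∈ I1) (memI1 u huN huE)
    change Nat.card I1 ≡ _ [MOD 31] at h
    rw [hi1] at h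
    refine Eq.trans h (congrArg (· % 31) ?_)
    refine Nat.card_eq_one_iff_exists.2
      ⟨⟨0, I1.zero_mem, Matrix.zero_vecMul _⟩, fun v => Subtype.ext ?_⟩
    exact hfree v.1 (hI1W _ v.2.1) v.2.2
  have e5 : i1 = 5 := arith31 i1 (by omega) (by omega) h31
  subst e5
  -- the vectors of `I1` are fixed by `y`
  have hyI : ∀ r ∈ I1, r ᵥ* y.val = r := by
    have h := set_modEq (p := 11) hy11 (fun v => v ∈ I1) (memI1 y hyN hyE)
    obtain ⟨g, -, hg⟩ := card_sub (I1 ⊓ fixS y)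
    have e : Nat.card {v // v ∈ I1 ∧ v ᵥ* y.val = v} = 2 ^ g := hg
    change Nat.card I1 ≡ _ [MOD 11] at h
    rw [hi1, e] at h
    have hle : g ≤ 5 := exp_le (by
      rw [← hg, ← hi1]
      exact AddSubgroup.card_le_of_le inf_le_left)
    have hge := arith11a g hle h
    have heq : I1 ⊓ fixS y = I1 := AddSubgroup.eq_of_le_of_card_ge inf_le_left (by rw [hi1, hg, hge])
    intro r hr
    exact (heq.symm ▸ hr : r ∈ I1 ⊓ fixS y).2
  obtain ⟨f, -, hf⟩ := card_sub (W1 ⊓ fixS y)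
  have hf15 : f ≤ 15 := exp_le (by rw [← hf, ← hE15]; exact AddSubgroup.card_le_of_le inf_le_left)
  have hfmod : 2 ^ 15 % 11 = 2 ^ f % 11 := by
    have h := set_modEq (p := 11) hy11 (fun v => v ∈ W1) (fun v hv => (hW1 _).2 (by
      rw [Matrix.vecMul_vecMul, hyE.eq, ← Matrix.vecMul_vecMul, (hW1 v).1 hv]))
    change Nat.card W1 ≡ _ [MOD 11] at h
    rw [hE15] at h
    exact Eq.trans h (congrArg (· % 11) hf)
  have hf10 : 10 ≤ f := by
    let F : (W1 ⊓ fixS y : AddSubgroup (Vec n)) →+ Vec n :=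
      (mulHom N).comp (W1 ⊓ fixS y).subtype
    have hr : I1 ≤ F.range := by
      rintro r hr
      obtain ⟨w, hw, e⟩ := hr
      refine ⟨⟨avg y 11 w, (hW1 _).2 ?_, avg_fixed hy11 w⟩, ?_⟩
      · rw [avg_mul hyE, (hW1 w).1 hw]
      · show avg y 11 w ᵥ* N = r
        rw [avg_mul hyN]
        show avg y 11 ((mulHom N) w) = r
        rw [e]
        exact avg_of_fixed (by decide) (hyI r ⟨w, hw, e⟩)
    have hk : Nat.card I1 ≤ Nat.card F.ker :=
      Nat.card_le_card_of_injective (fun r => ⟨⟨r.1, (hW1 _).2 (hI1W _ r.2), hyI _ r.2⟩, by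
          obtain ⟨w, hw, e⟩ := r.2
          show r.1 ᵥ* N = 0
          rw [← e]
          show w ᵥ* N ᵥ* N = 0
          rw [Matrix.vecMul_vecMul, hNN, Matrix.vecMul_zero]⟩)
        fun r s e => Subtype.ext (congrArg (fun t : F.ker => t.1.1) e)
    refine exp_le ?_
    rw [← hf, card_ker_mul_range F, show (2 : ℕ) ^ 10 = 2 ^ 5 * 2 ^ 5 from pow_add 2 5 5, ← hi1]
    exact Nat.mul_le_mul hk (AddSubgroup.card_le_of_le hr)
  have := arith11b f hf15 hf10 hfmod
  subst this
  have hfin : 2 ^ 15 ≤ fixNum y := by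
    rw [← hf, ← card_fixS]
    exact AddSubgroup.card_le_of_le inf_le_right
  exact absurd (hfin.trans hy) (by norm_num)

/-! ### Polynomials in a matrix on rows -/

/-- A row times the sum of the powers selected by the bits. -/
def polyRow (U : List ℕ) : ℕ → ℕ → ℕ → ℕ
  | 0, _, _ => 0
  | k + 1, e, r => (bif e.testBit 0 then r else 0) ^^^
      CosetEnum.force (rowMul U r) (fun r' => polyRow U k (e / 2) r')

/-- The sum of the powers selected by the bits. -/
def polyMat (A : Matrix (Fin n) (Fin n) (ZMod 2)) : ℕ → ℕ → Matrix (Fin n) (Fin n) (ZMod 2)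
  | 0, _ => 0
  | k + 1, e => (bif e.testBit 0 then 1 else 0) + A * polyMat A k (e / 2)

/-- The parity of the selection. -/
def polyPar : ℕ → ℕ → Bool
  | 0, _ => false
  | k + 1, e => xor (e.testBit 0) (polyPar k (e / 2))

theorem commute_polyMat {A B : Matrix (Fin n) (Fin n) (ZMod 2)} (h : Commute B A) :
    ∀ k e, Commute B (polyMat A k e)
  | 0, _ => Commute.zero_right B
  | k + 1, e => by
    rw [polyMat]
    refine Commute.add_right ?_ (h.mul_right (commute_polyMat h k _))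
    cases e.testBit 0
    · exact Commute.zero_right B
    · exact Commute.one_right B

theorem vecMul_polyMat {A : Matrix (Fin n) (Fin n) (ZMod 2)} {v : Vec n} (h : v ᵥ* A = v) :
    ∀ k e, v ᵥ* polyMat A k e = bif polyPar k e then v else 0
  | 0, _ => Matrix.vecMul_zero v
  | k + 1, e => by
    rw [polyMat, polyPar, Matrix.vecMul_add, ← Matrix.vecMul_vecMul, h, vecMul_polyMat h k]
    have h2 : v + v = 0 := funext fun j => CharTwo.add_self_eq_zero _
    cases e.testBit 0 <;> cases polyPar k (e / 2) <;> simp [h2]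

theorem vecOf_zero : vecOf 0 = 0 := funext fun j => by simp [vecOf, bit_zero]

theorem vecOf_xor (a b : ℕ) : vecOf (a ^^^ b) = vecOf a + vecOf b :=
  funext fun j => bit_xor a b j.val

theorem vecOf_polyRow {U : List ℕ} (hU : U.length = 112) : ∀ (k e r : ℕ),
    vecOf (polyRow U k e r) = vecOf r ᵥ* polyMat (toMat U) k e
  | 0, _, r => by rw [polyRow, polyMat, Matrix.vecMul_zero, vecOf_zero]
  | k + 1, e, r => by
    rw [polyRow, polyMat, CosetEnum.force_eq, vecOf_xor, vecOf_polyRow hU k, vecOf_rowMul hU,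
      Matrix.vecMul_add, Matrix.vecMul_vecMul]
    cases e.testBit 0 <;> simp [vecOf_zero]

/-- The rows of the sum of powers. -/
theorem polyMat_eq {U E : List ℕ} (hU : U.length = 112) {k e : ℕ}
    (h : (List.range 112).all (fun i => Nat.beq (polyRow U k e (2 ^ i)) (E.getD i 0)) = true) :
    polyMat (toMat U) k e = toMat E := by
  refine Matrix.ext fun i j => ?_
  have hi := Nat.eq_of_beq_eq_true (List.all_eq_true.1 h i.val (List.mem_range.2 i.isLt))
  have hv := congrFun (vecOf_polyRow hU k e (2 ^ i.val)) j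
  have e' : vecOf (2 ^ i.val) = Pi.single i 1 := by
    funext k
    by_cases hk : i = k
    · subst hk; simp [vecOf, bit, Nat.testBit_two_pow]
    · simp [vecOf, bit, Nat.testBit_two_pow, Fin.val_ne_of_ne hk, Pi.single_apply, Ne.symm hk]
  rw [hi, e', Matrix.single_one_vecMul] at hv
  exact hv.symm

end CfsgLib.JankoFourInvol
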