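import Cfsg.Agent.JankoFourInvol.Structure

/-!
The centraliser of the involution acting on twelve coordinates: the extraspecial group acts
trivially and the generators have three orbits on the non-zero vectors, of sizes 693, 1386, 2016.
-/

set_option autoImplicit false
set_option maxRecDepth 100000
set_option linter.style.haveILetI false

namespace CfsgLib.JankoFourInvol

open Matrix CfsgLib.JankoFour CfsgLib.JankoFourRep CfsgLib.JankoFour.Fixed Cfsg.Spor

theorem rep_mem_cen {g : J4} (hg : g ∈ cenZ) : rep g ∈ zData.cen := by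
  show Commute (rep g).val (toMat nRows)
  rw [nRows_eq, ← rep_zJ]
  refine Commute.add_right ?_ (Commute.one_right _)
  show (rep g).val * (rep zJ).val = (rep zJ).val * (rep g).val
  rw [← Units.val_mul, ← Units.val_mul, ← map_mul, ← map_mul, mem_cenZ.1 hg]

/-- The centraliser inside the matrices commuting with `1 + z`. -/
noncomputable def toCen : cenZ →* zData.cen :=
  (rep.comp cenZ.subtype).codRestrict zData.cen fun g => rep_mem_cen g.2

theorem toCen_val (g : cenZ) : (toCen g).1 = rep g.1 := rfl

/-- The action on twelve coordinates. -/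
noncomputable def act12 : cenZ →* GLV 12 := zData.act.comp toCen

/-- A vector of twelve coordinates from a number. -/
def vec12 (a : ℕ) : Fixed.Vec 12 := fun j => bit a j.val

theorem rect_row {a b : ℕ} (L : List ℕ) (i : Fin a) (j : Fin b) :
    rect a b L i j = bit (L.getD i.val 0) j.val := rfl

theorem vec12_rowMul {L : List ℕ} (hL : L.length = 12) (r : ℕ) :
    vec12 (rowMul L r) = vec12 r ᵥ* rect 12 12 L := by
  funext j
  simp only [vec12, Matrix.vecMul, dotProduct, rect, Matrix.of_apply]
  rw [bit_rowMul, hL, ← Fin.sum_univ_eq_sum_range (fun m => bit r m * bit (L.getD m 0) j.val) 12]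

theorem genM_len {k : ℕ} (hk : k < 15) : (genM.getD k []).length = 12 := by
  have h := List.all_eq_true.1 genM_ok.2.1 k (List.mem_range.2 hk)
  rw [Bool.and_eq_true, beq_iff_eq] at h
  exact h.1

theorem comp_eq {c : ℕ} (hc : c < 52) {g : cenZ} (e : g.1 = el c) {T : List ℕ}
    (h : ((List.range 12).all fun i =>
      Nat.beq (rowMul projM (rowMul (wTab c) (liftM.getD i 0))) (T.getD i 0)) = true) :
    (act12 g).val = rect 12 12 T := by
  show rect 12 112 liftM * (rep g.1).val * rect 112 12 projM = _
  rw [e, rep_el hc, toMat_eq_rect, rect_mul (wTab_length c)]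
  ext i j
  have hp : projM.length = 112 := split_ok.1.2.1
  have hI := Nat.eq_of_beq_eq_true (List.all_eq_true.1 h i.val (List.mem_range.2 i.isLt))
  rw [rect_row, ← hI]
  simp only [Matrix.mul_apply, rect, Matrix.of_apply]
  rw [bit_rowMul, hp, ← Fin.sum_univ_eq_sum_range
    (fun m => bit (rowMul (wTab c) (liftM.getD i.val 0)) m * bit (projM.getD m 0) j.val) 112]

theorem rect_unit : rect 12 12 ((List.range 12).map (2 ^ ·)) = 1 := by
  ext i j
  rw [rect_row, List.getD_eq_getElem?_getD, List.getElem?_map, List.getElem?_range i.isLt]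
  simp [bit_two_pow, Matrix.one_apply, Fin.ext_iff]

theorem unit_getD {i : ℕ} (h : i < 12) : ((List.range 12).map (2 ^ ·)).getD i 0 = 2 ^ i := by
  simp [List.getD_eq_getElem?_getD, List.getElem?_range h]

theorem act12_gen {g : cenZ} {k : ℕ} (hk : k < 15) (e : g.1 = el (k + 5)) :
    (act12 g).val = rect 12 12 (genM.getD k []) := by
  have h := List.all_eq_true.1 genM_ok.2.1 k (List.mem_range.2 hk)
  rw [Bool.and_eq_true] at h
  exact comp_eq (by omega) e h.2

theorem act12_z {g : cenZ} (e : g.1 = el 4) : act12 g = 1 := Units.ext (by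
  rw [comp_eq (T := (List.range 12).map (2 ^ ·)) (by norm_num) e, rect_unit, Units.val_one]
  rw [List.all_eq_true]
  intro i hi
  rw [unit_getD (List.mem_range.1 hi)]
  exact List.all_eq_true.1 genM_ok.2.2.2 i hi)

theorem act12_q {g : cenZ} (q : Fin 12) (e : g.1 = qJ q) : act12 g = 1 := Units.ext (by
  rw [comp_eq (T := (List.range 12).map (2 ^ ·)) (c := q.val + 20) (by omega) e, rect_unit,
    Units.val_one]
  rw [List.all_eq_true]
  intro i hi
  rw [unit_getD (List.mem_range.1 hi)]
  exact List.all_eq_true.1 (List.all_eq_true.1 genM_ok.2.2.1 q.val (List.mem_range.2 q.isLt)) i hi)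

theorem q_le_ker (H : Hyp) : qGrp.subgroupOf cenZ ≤ act12.ker := by
  have key : qGrp ≤ act12.ker.map cenZ.subtype := by
    rw [qGrp, Subgroup.closure_le]
    rintro _ (rfl | ⟨i, rfl⟩)
    · exact ⟨⟨zJ, H.z_mem_cenZ⟩, act12_z rfl, rfl⟩
    · exact ⟨⟨qJ i, H.el_mem_cenZ (by omega) (by omega)⟩, act12_q i rfl, rfl⟩
  intro x hx
  obtain ⟨y, hy, e⟩ := key hx
  rwa [Subtype.ext e] at hy

/-! ### The orbit trees -/

/-- The vector reached by an entry of a tree. -/
def moved (e : ℕ) : ℕ := rowMul (genM.getD (e % 16) []) (e / 16)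

theorem testBit_or_two_pow {s v i : ℕ} (h : (s ||| 2 ^ v).testBit i = true) :
    s.testBit i = true ∨ i = v := by
  rw [Nat.testBit_or, Bool.or_eq_true, Nat.testBit_two_pow] at h
  rcases h with h | h
  · exact Or.inl h
  · exact Or.inr (of_decide_eq_true h).symm

theorem treeWalk_sound (P : ℕ → Prop)
    (hP : ∀ a k, k < 15 → P a → P (rowMul (genM.getD k []) a)) :
    ∀ (T : List ℕ) (seen : ℕ), (treeWalk T seen).isSome = true →
      (∀ i, seen.testBit i = true → P i) →
      ∀ i, ((treeWalk T seen).getD 0).testBit i = true →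
        P i ∧ (seen.testBit i = true ∨ i ∈ T.map moved)
  | [], seen, _, hs, i, hi => by
    simp only [treeWalk, Option.getD_some] at hi
    exact ⟨hs i hi, Or.inl hi⟩
  | e :: T, seen, hok, hs, i, hi => by
    simp only [treeWalk, CosetEnum.force_eq] at hok hi
    cases hb : Nat.testBit seen (e / 16) && Nat.blt (e % 16) 15 with
    | false => simp [hb] at hok
    | true =>
      simp only [hb, cond_true] at hok hi
      rw [Bool.and_eq_true, Nat.blt_eq] at hb
      have hnew : P (moved e) := hP _ _ hb.2 (hs _ hb.1)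
      obtain ⟨h1, h2⟩ := treeWalk_sound P hP T _ hok (fun j hj => by
        rcases testBit_or_two_pow hj with h | h
        · exact hs j h
        · exact h ▸ hnew) i hi
      refine ⟨h1, ?_⟩
      rw [List.map_cons, List.mem_cons]
      rcases h2 with h | h
      · rcases testBit_or_two_pow h with h | h
        · exact Or.inl h
        · exact Or.inr (Or.inl h)
      · exact Or.inr (Or.inr h)

theorem treeWalk_root (r : ℕ) (P : ℕ → Prop) (hr : P r)
    (hP : ∀ a k, k < 15 → P a → P (rowMul (genM.getD k []) a)) (T : List ℕ)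
    (h : (treeWalk T (2 ^ r)).isSome = true) {i : ℕ}
    (hi : ((treeWalk T (2 ^ r)).getD 0).testBit i = true) : P i ∧ i ∈ r :: T.map moved := by
  obtain ⟨h1, h2⟩ := treeWalk_sound P hP T _ h (fun j hj => by
    rw [Nat.testBit_two_pow] at hj
    exact (of_decide_eq_true hj) ▸ hr) i hi
  refine ⟨h1, ?_⟩
  rcases h2 with h | h
  · rw [Nat.testBit_two_pow] at h
    exact List.mem_cons.2 (Or.inl (of_decide_eq_true h).symm)
  · exact List.mem_cons.2 (Or.inr h)

/-- Two vectors in one orbit. -/
def Linked (v w : Fixed.Vec 12) : Prop := ∃ g : cenZ, v ᵥ* (act12 g).val = w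

theorem Linked.refl (v : Fixed.Vec 12) : Linked v v :=
  ⟨1, by rw [map_one, Units.val_one, Matrix.vecMul_one]⟩

theorem Linked.trans {u v w : Fixed.Vec 12} (h : Linked u v) (h' : Linked v w) : Linked u w := by
  obtain ⟨g, rfl⟩ := h
  obtain ⟨g', rfl⟩ := h'
  exact ⟨g * g', by rw [map_mul, Units.val_mul, ← Matrix.vecMul_vecMul]⟩

theorem Linked.symm {v w : Fixed.Vec 12} (h : Linked v w) : Linked w v := by
  obtain ⟨g, rfl⟩ := h
  exact ⟨g⁻¹, by rw [Matrix.vecMul_vecMul, ← Units.val_mul, ← map_mul, mul_inv_cancel, map_one,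
    Units.val_one, Matrix.vecMul_one]⟩

/-- The three orbits of the generators as bit sets. -/
def orbBits : ℕ → ℕ
  | 0 => (treeWalk tree0 (2 ^ root0)).getD 0
  | 1 => (treeWalk tree1 (2 ^ root1)).getD 0
  | _ => (treeWalk tree2 (2 ^ root2)).getD 0

/-- The three orbits of the generators. -/
def orbSet (j : ℕ) : Finset ℕ := (Finset.range 4096).filter fun a => (orbBits j).testBit a

/-- The roots. -/
def orbRoot : ℕ → ℕ
  | 0 => root0
  | 1 => root1
  | _ => root2

theorem linked_of_mem (H : Hyp) {j a : ℕ} (hj : j < 3) (ha : a ∈ orbSet j) :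
    Linked (vec12 (orbRoot j)) (vec12 a) := by
  simp only [orbSet, Finset.mem_filter] at ha
  have hP : ∀ b k, k < 15 → Linked (vec12 (orbRoot j)) (vec12 b) →
      Linked (vec12 (orbRoot j)) (vec12 (rowMul (genM.getD k []) b)) := fun b k hk h =>
    h.trans ⟨⟨el (k + 5), H.el_mem_cenZ (by omega) (by omega)⟩, by
      rw [vec12_rowMul (genM_len hk), act12_gen hk rfl]⟩
  obtain ⟨h0, h1, h2, -⟩ := trees_ok
  interval_cases j
  · exact (treeWalk_root root0 (fun b => Linked (vec12 root0) (vec12 b)) (Linked.refl _) hP tree0 h0 ha.2).1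
  · exact (treeWalk_root root1 (fun b => Linked (vec12 root1) (vec12 b)) (Linked.refl _) hP tree1 h1 ha.2).1
  · exact (treeWalk_root root2 (fun b => Linked (vec12 root2) (vec12 b)) (Linked.refl _) hP tree2 h2 ha.2).1

theorem orbSet_card_le : (orbSet 0).card ≤ 693 ∧ (orbSet 1).card ≤ 1386 ∧ (orbSet 2).card ≤ 2016 := by
  obtain ⟨h0, h1, h2, -, l0, l1, l2⟩ := trees_ok
  have key : ∀ (j : ℕ) (r : ℕ) (T : List ℕ), orbBits j = (treeWalk T (2 ^ r)).getD 0 →
      (treeWalk T (2 ^ r)).isSome = true → (orbSet j).card ≤ T.length + 1 := by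
    intro j r T e h
    refine le_trans (Finset.card_le_card (t := (r :: T.map moved).toFinset) fun a ha => ?_)
      ((List.toFinset_card_le _).trans (by simp))
    simp only [orbSet, Finset.mem_filter] at ha
    rw [e] at ha
    exact List.mem_toFinset.2 (treeWalk_root r (fun _ => True) trivial (fun _ _ _ _ => trivial) T h ha.2).2
  exact ⟨(key 0 root0 tree0 rfl h0).trans_eq (by rw [l0]),
    (key 1 root1 tree1 rfl h1).trans_eq (by rw [l1]),
    (key 2 root2 tree2 rfl h2).trans_eq (by rw [l2])⟩

theorem mem_orbSet {a : ℕ} : a ∈ orbSet 0 ∪ orbSet 1 ∪ orbSet 2 ↔ a < 4096 ∧ a ≠ 0 := by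
  simp only [Finset.mem_union, orbSet, Finset.mem_filter, Finset.mem_range, ← and_or_left]
  refine and_congr_right fun ha => ?_
  have e : (orbBits 0 ||| orbBits 1 ||| orbBits 2).testBit a = (2 ^ 4096 - 2 : ℕ).testBit a :=
    congrArg (fun m : ℕ => m.testBit a) trees_ok.2.2.2.1
  rw [Nat.testBit_or, Nat.testBit_or] at e
  rw [← Bool.or_eq_true, ← Bool.or_eq_true, e, show (2 : ℕ) = 1 + 1 from rfl,
    Nat.testBit_two_pow_sub_succ (show 1 < (1 + 1) ^ 4096 from Nat.one_lt_two_pow (by norm_num))]
  rw [decide_eq_true ha, Bool.true_and, Bool.not_eq_true', ]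
  cases a with
  | zero => simp
  | succ a => simp [Nat.testBit_succ]

theorem vec12_inj {a b : ℕ} (ha : a < 4096) (hb : b < 4096) (h : vec12 a = vec12 b) : a = b := by
  refine Nat.eq_of_testBit_eq fun i => ?_
  by_cases hi : i < 12
  · have := congrFun h ⟨i, hi⟩
    simp only [vec12, bit] at this
    revert this
    cases a.testBit i <;> cases b.testBit i <;> decide
  · rw [Nat.testBit_lt_two_pow (ha.trans_le (Nat.pow_le_pow_right (by norm_num : 0 < 2) (show 12 ≤ i by omega))),
      Nat.testBit_lt_two_pow (hb.trans_le (Nat.pow_le_pow_right (by norm_num : 0 < 2) (show 12 ≤ i by omega)))]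

theorem vec12_surjective (v : Fixed.Vec 12) : ∃ a < 4096, vec12 a = v := by
  have hinj : Function.Injective fun a : Fin 4096 => vec12 a.val :=
    fun a b e => Fin.ext (vec12_inj a.isLt b.isLt e)
  have h : Function.Bijective fun a : Fin 4096 => vec12 a.val :=
    (Nat.bijective_iff_injective_and_card _).2 ⟨hinj, by rw [Nat.card_fin, card_vec]; norm_num⟩
  obtain ⟨a, rfl⟩ := h.2 v
  exact ⟨a.val, a.isLt, rfl⟩

theorem vec12_zero : vec12 0 = 0 := funext fun j => by simp [vec12, bit]

theorem root2_lt : root2 < 4096 := by decide +kernel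

theorem root2_ne : root2 ≠ 0 := by decide +kernel

attribute [irreducible] orbSet orbBits vec12

open scoped Classical in
/-- The orbit of the largest root as numbers. -/
noncomputable def rootOrbit : Finset ℕ :=
  (Finset.Icc 1 4095).filter fun a => Linked (vec12 root2) (vec12 a)

open scoped Classical in
theorem mem_rootOrbit {a : ℕ} :
    a ∈ rootOrbit ↔ a ∈ Finset.Icc 1 4095 ∧ Linked (vec12 root2) (vec12 a) := by
  unfold rootOrbit
  exact Finset.mem_filter

attribute [irreducible] rootOrbit

/-- The orbit of the largest root has one of four sizes. -/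
theorem card_linked (H : Hyp) :
    Nat.card {v // Linked (vec12 root2) v} ∈ [2016, 2709, 3402, 4095] := by
  classical
  obtain ⟨c0, c1, c2⟩ := orbSet_card_le
  have hu : orbSet 0 ∪ orbSet 1 ∪ orbSet 2 = Finset.Icc 1 4095 := Finset.ext fun a => by
    rw [mem_orbSet, Finset.mem_Icc]; omega
  have htot := congrArg Finset.card hu
  rw [Nat.card_Icc, show 4095 + 1 - 1 = 4095 from rfl] at htot
  have u1 := Finset.card_union_add_card_inter (orbSet 0 ∪ orbSet 1) (orbSet 2)
  have u2 := Finset.card_union_add_card_inter (orbSet 0) (orbSet 1)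
  have d01 : Disjoint (orbSet 0) (orbSet 1) :=
    Finset.disjoint_iff_inter_eq_empty.2 (Finset.card_eq_zero.1 (by omega))
  have d2 : Disjoint (orbSet 0 ∪ orbSet 1) (orbSet 2) :=
    Finset.disjoint_iff_inter_eq_empty.2 (Finset.card_eq_zero.1 (by omega))
  have hcard : Nat.card {v // Linked (vec12 root2) v} = rootOrbit.card := by
    rw [← Nat.card_eq_finsetCard]
    symm
    refine Nat.card_congr (Equiv.ofBijective (fun a => ⟨vec12 a.1, (mem_rootOrbit.1 a.2).2⟩)
      ⟨fun a b e => ?_, fun v => ?_⟩)
    · have ha := Finset.mem_Icc.1 (mem_rootOrbit.1 a.2).1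
      have hb := Finset.mem_Icc.1 (mem_rootOrbit.1 b.2).1
      exact Subtype.ext (vec12_inj (by omega) (by omega) (congrArg Subtype.val e))
    · obtain ⟨a, ha, e⟩ := vec12_surjective v.1
      refine ⟨⟨a, mem_rootOrbit.2 ⟨Finset.mem_Icc.2 ⟨?_, by omega⟩, e ▸ v.2⟩⟩, Subtype.ext e⟩
      rcases Nat.eq_zero_or_pos a with rfl | h
      · exfalso
        obtain ⟨g, hg⟩ := v.2
        rw [← e, vec12_zero] at hg
        have h1 : vec12 root2 = vec12 0 := by
          rw [vec12_zero, ← Matrix.vecMul_one (vec12 root2), ← Units.val_one, ← mul_inv_cancel (act12 g),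
            Units.val_mul, ← Matrix.vecMul_vecMul, hg, Matrix.zero_vecMul]
        exact root2_ne (vec12_inj root2_lt (by norm_num : 0 < 4096) h1)
      · exact h
  have hsplit : ∀ j < 2, orbSet j ⊆ rootOrbit ∨ Disjoint (orbSet j) rootOrbit := by
    intro j hj
    by_cases hd : Disjoint (orbSet j) rootOrbit
    · exact Or.inr hd
    refine Or.inl fun a ha => ?_
    obtain ⟨b, hb, hbO⟩ := Finset.not_disjoint_iff.1 hd
    refine mem_rootOrbit.2 ⟨?_, (((mem_rootOrbit.1 hbO).2.trans
      (linked_of_mem H (by omega) hb).symm).trans (linked_of_mem H (by omega) ha))⟩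
    rw [← hu]
    interval_cases j <;> simp [ha]
  have h2 : orbSet 2 ⊆ rootOrbit := fun a ha => mem_rootOrbit.2
    ⟨by rw [← hu]; exact Finset.mem_union_right _ ha, linked_of_mem H (j := 2) (by norm_num) ha⟩
  have hO : rootOrbit = ((orbSet 0 ∪ orbSet 1) ∩ rootOrbit) ∪ orbSet 2 := by
    ext a
    constructor
    · intro ha
      have := (mem_rootOrbit.1 ha).1
      rw [← hu] at this
      rcases Finset.mem_union.1 this with h | h
      · exact Finset.mem_union_left _ (Finset.mem_inter.2 ⟨h, ha⟩)
      · exact Finset.mem_union_right _ h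
    · intro ha
      rcases Finset.mem_union.1 ha with h | h
      · exact (Finset.mem_inter.1 h).2
      · exact h2 h
  rw [hcard]
  conv in rootOrbit.card => rw [hO]
  rw [Finset.card_union_of_disjoint (d2.mono_left Finset.inter_subset_left),
    Finset.union_inter_distrib_right,
    Finset.card_union_of_disjoint (d01.mono Finset.inter_subset_left Finset.inter_subset_left)]
  simp only [List.mem_cons, List.not_mem_nil, or_false]
  rcases hsplit 0 (by norm_num) with a | a <;> rcases hsplit 1 (by norm_num) with b | b <;>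
    simp only [Finset.inter_eq_left.2, Finset.disjoint_iff_inter_eq_empty.1, a, b, Finset.card_empty] <;>
    omega

end CfsgLib.JankoFourInvol
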