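import Cfsg.Agent.JankoFour.SimpleFixed

/-!
Vectors fixed by matrices of odd order commuting with a nilpotent matrix `N` of square zero: with
`R` the image of `N` and the kernel of `N` over `R` presented on `m` coordinates, the fixed vectors
of `u` are counted by the square of those in `R` times those on the `m` coordinates.
-/

set_option autoImplicit false

namespace CfsgLib.JankoFourInvol

open Matrix Finset CfsgLib.JankoFour.Fixed

variable {n m : ℕ}

/-- A matrix of square zero with coordinates on its kernel over its image. -/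
structure SplitData (n m : ℕ) where
  /-- The nilpotent matrix. -/
  N : Matrix (Fin n) (Fin n) (ZMod 2)
  /-- The coordinates. -/
  P : Matrix (Fin n) (Fin m) (ZMod 2)
  /-- The lifts. -/
  L : Matrix (Fin m) (Fin n) (ZMod 2)
  /-- The complement. -/
  X : Matrix (Fin n) (Fin n) (ZMod 2)
  /-- The complement. -/
  Y : Matrix (Fin n) (Fin n) (ZMod 2)
  nn : N * N = 0
  ln : L * N = 0
  np : N * P = 0
  lp : L * P = 1
  split : P * L + N * X + Y * N = 1

namespace SplitData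

variable (D : SplitData n m)

/-- The matrices commuting with `N`. -/
def cen : Subgroup (GLV n) where
  carrier := {g | Commute g.val D.N}
  one_mem' := Commute.one_left _
  mul_mem' {a b} ha hb := by
    show Commute (a * b).val D.N
    rw [Units.val_mul]; exact Commute.mul_left ha hb
  inv_mem' {a} ha := by
    show Commute (a⁻¹).val D.N
    exact Commute.units_inv_left ha

/-- The matrix induced on the coordinates. -/
def comp (a : Matrix (Fin n) (Fin n) (ZMod 2)) : Matrix (Fin m) (Fin m) (ZMod 2) := D.L * a * D.P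

theorem comp_one : D.comp 1 = 1 := by rw [comp, Matrix.mul_one, D.lp]

theorem comp_mul {a b : Matrix (Fin n) (Fin n) (ZMod 2)} (ha : a * D.N = D.N * a)
    (hb : b * D.N = D.N * b) : D.comp a * D.comp b = D.comp (a * b) := by
  have h1 : D.L * a * (D.N * D.X) = 0 := by
    rw [← Matrix.mul_assoc, Matrix.mul_assoc D.L a D.N, ha, ← Matrix.mul_assoc D.L D.N a, D.ln,
      Matrix.zero_mul, Matrix.zero_mul]
  have h2 : D.N * (b * D.P) = 0 := by
    rw [← Matrix.mul_assoc, ← hb, Matrix.mul_assoc, D.np, Matrix.mul_zero]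
  have h3 : D.L * a = D.L * a * (D.P * D.L) + D.L * a * (D.Y * D.N) := by
    conv_lhs => rw [← Matrix.mul_one (D.L * a), ← D.split]
    rw [Matrix.mul_add, Matrix.mul_add, h1, add_zero]
  rw [comp, comp, comp, ← Matrix.mul_assoc D.L a b]
  conv_rhs => rw [h3]
  rw [Matrix.add_mul, Matrix.add_mul]
  simp only [Matrix.mul_assoc]
  rw [h2]
  simp

/-- The action on the coordinates. -/
def act : D.cen →* GLV m where
  toFun g :=
    ⟨D.comp g.1.val, D.comp (g.1⁻¹).val,
      by rw [D.comp_mul g.2 (D.cen.inv_mem g.2), ← Units.val_mul, mul_inv_cancel, Units.val_one, comp_one],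
      by rw [D.comp_mul (D.cen.inv_mem g.2) g.2, ← Units.val_mul, inv_mul_cancel, Units.val_one, comp_one]⟩
  map_one' := Units.ext (by show D.comp (1 : GLV n).val = 1; rw [Units.val_one, comp_one])
  map_mul' g h := Units.ext (by
    show D.comp (g.1 * h.1).val = D.comp g.1.val * D.comp h.1.val
    rw [D.comp_mul g.2 h.2, Units.val_mul])

theorem act_val (g : D.cen) : (D.act g).val = D.comp g.1.val := rfl

/-- The number of vectors of the image of `N` fixed by a matrix. -/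
noncomputable def rFix (u : GLV n) : ℕ :=
  Nat.card {v : Vec n // (∃ w : Vec n, w ᵥ* D.N = v) ∧ v ᵥ* u.val = v}

end SplitData

/-- The fixed vectors as a group. -/
def fixS (u : GLV n) : AddSubgroup (Vec n) where
  carrier := {v | v ᵥ* u.val = v}
  zero_mem' := Matrix.zero_vecMul _
  add_mem' {a b} ha hb := by
    show (a + b) ᵥ* u.val = a + b
    rw [Matrix.add_vecMul, ha, hb]
  neg_mem' {a} ha := by
    show (-a) ᵥ* u.val = -a
    rw [Matrix.neg_vecMul, ha]

theorem card_fixS (u : GLV n) : Nat.card (fixS u) = fixNum u := rfl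

theorem card_ker_mul_range {A B : Type*} [AddGroup A] [AddGroup B] (f : A →+ B) :
    Nat.card A = Nat.card f.ker * Nat.card f.range := by
  rw [← AddSubgroup.index_ker, AddSubgroup.card_mul_index]

/-- The sum over the powers. -/
def avg (u : GLV n) (q : ℕ) (v : Vec n) : Vec n := ∑ i ∈ range q, v ᵥ* (u ^ i).val

theorem avg_fixed {u : GLV n} {q : ℕ} (hu : u ^ q = 1) (v : Vec n) :
    avg u q v ᵥ* u.val = avg u q v := by
  rw [avg, Matrix.sum_vecMul]
  have e : ∀ i, v ᵥ* (u ^ i).val ᵥ* u.val = v ᵥ* (u ^ (i + 1)).val := fun i => by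
    rw [Matrix.vecMul_vecMul, ← Units.val_mul, ← pow_succ]
  simp only [e]
  have h1 := Finset.sum_range_succ (fun i => v ᵥ* (u ^ i).val) q
  have h2 := Finset.sum_range_succ' (fun i => v ᵥ* (u ^ i).val) q
  rw [h1, hu, pow_zero] at h2
  exact (add_right_cancel h2).symm

theorem nsmul_odd {q : ℕ} (hq : Odd q) (v : Vec n) : q • v = v := by
  funext j
  rw [Pi.smul_apply, nsmul_eq_mul, ZMod.natCast_eq_one_iff_odd.2 hq, one_mul]

theorem avg_of_fixed {u : GLV n} {q : ℕ} (hq : Odd q) {v : Vec n} (hv : v ᵥ* u.val = v) :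
    avg u q v = v := by
  have e : ∀ i, v ᵥ* (u ^ i).val = v := fun i => by
    induction i with
    | zero => simp
    | succ i ih => rw [pow_succ, Units.val_mul, ← Matrix.vecMul_vecMul, ih, hv]
  rw [avg, Finset.sum_congr rfl fun i _ => e i, Finset.sum_const, Finset.card_range, nsmul_odd hq]

theorem avg_comm {u : GLV n} {q k : ℕ} {A : Matrix (Fin n) (Fin k) (ZMod 2)} (v : Vec n) :
    avg u q v ᵥ* A = ∑ i ∈ range q, v ᵥ* ((u ^ i).val * A) := by
  rw [avg, Matrix.sum_vecMul]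
  exact Finset.sum_congr rfl fun i _ => Matrix.vecMul_vecMul _ _ _

theorem avg_mul {u : GLV n} {q : ℕ} {A : Matrix (Fin n) (Fin n) (ZMod 2)}
    (hA : Commute u.val A) (v : Vec n) : avg u q v ᵥ* A = avg u q (v ᵥ* A) := by
  rw [avg_comm, avg]
  refine Finset.sum_congr rfl fun i _ => ?_
  rw [Matrix.vecMul_vecMul, Units.val_pow_eq_pow_val, (hA.pow_left i).eq]

/-- An invariant set of vectors against its fixed vectors. -/
theorem set_modEq {u : GLV n} {p : ℕ} [Fact p.Prime] (hu : u ^ p = 1) (S : Vec n → Prop)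
    (hS : ∀ v, S v → S (v ᵥ* u.val)) :
    Nat.card {v // S v} ≡ Nat.card {v // S v ∧ v ᵥ* u.val = v} [MOD p] := by
  classical
  let f : {v // S v} → {v // S v} := fun v => ⟨v.1 ᵥ* u.val, hS v.1 v.2⟩
  have hinj : Function.Injective f := fun a b e => Subtype.ext (by
    have := congrArg (fun w : {v // S v} => w.1 ᵥ* (u⁻¹).val) e
    simp only [f, Matrix.vecMul_vecMul, ← Units.val_mul, mul_inv_cancel, Units.val_one,
      Matrix.vecMul_one] at this
    exact this)
  let σ : Equiv.Perm {v // S v} := Equiv.ofBijective f (Finite.injective_iff_bijective.1 hinj)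
  have hpow : ∀ (k : ℕ) (v : {v // S v}), ((σ ^ k) v).1 = v.1 ᵥ* (u ^ k).val := by
    intro k
    induction k with
    | zero => intro v; simp
    | succ k ih =>
      intro v
      rw [pow_succ, Equiv.Perm.mul_apply, ih, pow_succ', Units.val_mul, ← Matrix.vecMul_vecMul]
      rfl
  have hσ : σ ^ p = 1 := Equiv.ext fun v => Subtype.ext (by
    rw [hpow, hu, Units.val_one, Matrix.vecMul_one]; rfl)
  refine (card_fix_modEq hσ).trans (congrArg (· % p) ?_)
  exact Nat.card_congr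
    { toFun := fun v => ⟨v.1.1, v.1.2, congrArg Subtype.val v.2⟩
      invFun := fun v => ⟨⟨v.1, v.2.1⟩, Subtype.ext v.2.2⟩
      left_inv := fun v => rfl
      right_inv := fun v => rfl }

namespace SplitData

variable (D : SplitData n m)

theorem vec_eq_of_ker {v : Vec n} (hv : v ᵥ* D.N = 0) :
    v = v ᵥ* D.P ᵥ* D.L + v ᵥ* D.Y ᵥ* D.N := by
  conv_lhs => rw [← Matrix.vecMul_one v, ← D.split]
  rw [Matrix.vecMul_add, Matrix.vecMul_add, ← Matrix.vecMul_vecMul v D.N D.X, hv,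
    Matrix.zero_vecMul, add_zero, ← Matrix.vecMul_vecMul, ← Matrix.vecMul_vecMul]

/-- The counting of the fixed vectors. -/
theorem fix_eq {u : D.cen} {q : ℕ} (hq : Odd q) (hu : u ^ q = 1) :
    fixNum u.1 = D.rFix u.1 ^ 2 * fixNum (D.act u) := by
  have hu' : u.1 ^ q = 1 := congrArg Subtype.val hu
  have hc : Commute u.1.val D.N := u.2
  let f : fixS u.1 →+ Vec n :=
    { toFun := fun v => v.1 ᵥ* D.N
      map_zero' := Matrix.zero_vecMul _
      map_add' := fun a b => Matrix.add_vecMul _ _ _ }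
  have hrange : ∀ r, r ∈ f.range ↔ (∃ w : Vec n, w ᵥ* D.N = r) ∧ r ᵥ* u.1.val = r := by
    intro r
    constructor
    · rintro ⟨v, rfl⟩
      refine ⟨⟨v.1, rfl⟩, ?_⟩
      show v.1 ᵥ* D.N ᵥ* u.1.val = v.1 ᵥ* D.N
      rw [Matrix.vecMul_vecMul, ← hc.eq, ← Matrix.vecMul_vecMul, v.2]
    · rintro ⟨⟨w, rfl⟩, hr⟩
      exact ⟨⟨avg u.1 q w, avg_fixed hu' w⟩, (avg_mul hc w).trans (avg_of_fixed hq hr)⟩
  have hr : Nat.card f.range = D.rFix u.1 := Nat.card_congr (Equiv.subtypeEquivRight hrange)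
  let g : f.ker →+ (Fin m → ZMod 2) :=
    { toFun := fun v => v.1.1 ᵥ* D.P
      map_zero' := Matrix.zero_vecMul _
      map_add' := fun a b => Matrix.add_vecMul _ _ _ }
  have hact : ∀ v : Vec n, v ᵥ* D.N = 0 → v ᵥ* D.P ᵥ* (D.act u).val = v ᵥ* u.1.val ᵥ* D.P := by
    intro v hv
    conv_rhs => rw [D.vec_eq_of_ker hv]
    rw [act_val, comp, Matrix.add_vecMul, Matrix.add_vecMul]
    have e : v ᵥ* D.Y ᵥ* D.N ᵥ* u.1.val ᵥ* D.P = 0 := by
      rw [Matrix.vecMul_vecMul (v ᵥ* D.Y) D.N, ← hc.eq, ← Matrix.vecMul_vecMul,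
        Matrix.vecMul_vecMul (v ᵥ* D.Y ᵥ* u.1.val), D.np, Matrix.vecMul_zero]
    rw [e, add_zero, ← Matrix.vecMul_vecMul, ← Matrix.vecMul_vecMul]
  have hg : ∀ w, w ∈ g.range ↔ w ∈ fixS (D.act u) := by
    intro w
    constructor
    · rintro ⟨v, rfl⟩
      show v.1.1 ᵥ* D.P ᵥ* (D.act u).val = v.1.1 ᵥ* D.P
      rw [hact v.1.1 v.2, v.1.2]
    · intro hw
      change w ᵥ* (D.act u).val = w at hw
      have h0 : avg u.1 q (w ᵥ* D.L) ᵥ* D.N = 0 := by
        rw [avg_mul hc, Matrix.vecMul_vecMul, D.ln, Matrix.vecMul_zero]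
        simp [avg]
      refine ⟨⟨⟨avg u.1 q (w ᵥ* D.L), avg_fixed hu' _⟩, h0⟩, ?_⟩
      show avg u.1 q (w ᵥ* D.L) ᵥ* D.P = w
      rw [avg_comm]
      have e : ∀ i, w ᵥ* D.L ᵥ* ((u.1 ^ i).val * D.P) = w := by
        intro i
        induction i with
        | zero => rw [pow_zero, Units.val_one, Matrix.one_mul, Matrix.vecMul_vecMul, D.lp,
            Matrix.vecMul_one]
        | succ i ih =>
          rw [← Matrix.vecMul_vecMul] at ih ⊢
          have h1 : w ᵥ* D.L ᵥ* (u.1 ^ i).val ᵥ* D.N = 0 := by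
            rw [Matrix.vecMul_vecMul (w ᵥ* D.L), Units.val_pow_eq_pow_val, (hc.pow_left i).eq,
              ← Matrix.vecMul_vecMul, Matrix.vecMul_vecMul w, D.ln, Matrix.vecMul_zero,
              Matrix.zero_vecMul]
          rw [pow_succ, Units.val_mul, ← Matrix.vecMul_vecMul, ← hact _ h1, ih, hw]
      rw [Finset.sum_congr rfl fun i _ => e i, Finset.sum_const, Finset.card_range, nsmul_odd hq]
  have hgr : Nat.card g.range = fixNum (D.act u) := by
    rw [show g.range = fixS (D.act u) from AddSubgroup.ext hg, card_fixS]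
  have hk : Nat.card g.ker = Nat.card f.range := by
    refine Nat.card_congr
      (Equiv.ofBijective (fun v => (⟨v.1.1.1, ?_⟩ : f.range)) ⟨?_, ?_⟩)
    · refine (hrange _).2 ⟨⟨v.1.1.1 ᵥ* D.Y, ?_⟩, v.1.1.2⟩
      have h := D.vec_eq_of_ker v.1.2
      have hP : v.1.1.1 ᵥ* D.P = 0 := v.2
      rw [hP, Matrix.zero_vecMul, zero_add] at h
      exact h.symm
    · intro a b e
      exact Subtype.ext (Subtype.ext (Subtype.ext (congrArg (fun r : f.range => r.1) e)))
    · rintro ⟨r, hr'⟩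
      obtain ⟨⟨w, rfl⟩, hu2⟩ := (hrange r).1 hr'
      refine ⟨⟨⟨⟨w ᵥ* D.N, hu2⟩, ?_⟩, ?_⟩, rfl⟩
      · show w ᵥ* D.N ᵥ* D.N = 0
        rw [Matrix.vecMul_vecMul, D.nn, Matrix.vecMul_zero]
      · show w ᵥ* D.N ᵥ* D.P = 0
        rw [Matrix.vecMul_vecMul, D.np, Matrix.vecMul_zero]
  rw [← card_fixS, card_ker_mul_range f, card_ker_mul_range g, hk, hgr, hr]
  ring

theorem rFix_modEq {u : D.cen} {p : ℕ} [Fact p.Prime] (hu : u ^ p = 1) :
    D.rFix 1 ≡ D.rFix u.1 [MOD p] := by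
  have h := set_modEq (u := u.1) (p := p) (congrArg Subtype.val hu)
    (fun v => ∃ w : Vec n, w ᵥ* D.N = v) (by
      rintro _ ⟨w, rfl⟩
      exact ⟨w ᵥ* u.1.val, by rw [Matrix.vecMul_vecMul, Matrix.vecMul_vecMul, (show Commute _ _ from u.2).eq]⟩)
  refine Eq.trans (congrArg (· % p) ?_) h
  exact Nat.card_congr (Equiv.subtypeEquivRight fun v => by simp [Matrix.vecMul_one])

theorem rFix_pow (u : GLV n) : ∃ e, D.rFix u = 2 ^ e := by
  let S : AddSubgroup (Vec n) :=
    { carrier := {v | (∃ w : Vec n, w ᵥ* D.N = v) ∧ v ᵥ* u.val = v}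
      zero_mem' := ⟨⟨0, Matrix.zero_vecMul _⟩, Matrix.zero_vecMul _⟩
      add_mem' := by
        rintro _ _ ⟨⟨w, rfl⟩, ha⟩ ⟨⟨w', rfl⟩, hb⟩
        exact ⟨⟨w + w', Matrix.add_vecMul _ _ _⟩, by rw [Matrix.add_vecMul, ha, hb]⟩
      neg_mem' := by
        rintro _ ⟨⟨w, rfl⟩, ha⟩
        exact ⟨⟨-w, Matrix.neg_vecMul _ _⟩, by rw [Matrix.neg_vecMul, ha]⟩ }
  obtain ⟨e, -, he⟩ := card_sub S
  exact ⟨e, he⟩

/-- The exponents. -/
theorem exp_eq {u : D.cen} {q c : ℕ} (hq : Odd q) (hu : u ^ q = 1) (hc : fixNum u.1 = 2 ^ c) :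
    ∃ r k, D.rFix u.1 = 2 ^ r ∧ fixNum (D.act u) = 2 ^ k ∧ k ≤ m ∧ c = 2 * r + k := by
  obtain ⟨r, hr⟩ := D.rFix_pow u.1
  obtain ⟨k, hk, hk'⟩ := fixNum_pow (D.act u)
  refine ⟨r, k, hr, hk', hk, Nat.pow_right_injective (le_refl 2) ?_⟩
  show 2 ^ c = 2 ^ (2 * r + k)
  rw [← hc, D.fix_eq hq hu, hr, hk', pow_add, ← pow_mul, mul_comm r 2]

end SplitData

end CfsgLib.JankoFourInvol
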