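import Cfsg.Agent.JankoFourInvol.Eleven
import Cfsg.Agent.JankoFour.Lower
import Cfsg.Agent.FGS74.Cubic.Extra

/-!
The extraspecial group of order `2 ^ 13`, the group of order `3 * 2 ^ 13` above it, and their action
on 77 vectors, inside the centraliser of the involution of the presented fourth Janko group.
-/

set_option autoImplicit false
set_option linter.style.haveILetI false

namespace CfsgLib.JankoFourInvol

open Matrix CfsgLib.JankoFour CfsgLib.JankoFourRep CfsgLib.JankoFour.Fixed Cfsg.Spor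

/-! ### Relations -/

theorem mem_square (i : Fin 12) : ([i.val + 20, i.val + 20], []) ∈ eqList := by
  unfold eqList
  simp only [List.mem_cons, List.mem_append, List.mem_map, List.mem_range]
  exact Or.inr (Or.inl (Or.inl (Or.inl (Or.inr (Or.inr ⟨i.val, i.isLt, rfl⟩)))))

theorem mem_z (c : ℕ) (h5 : 5 ≤ c) (hc : c < 33) : ([c, 4], [4, c]) ∈ eqList := by
  unfold eqList
  simp only [List.mem_cons, List.mem_append, List.mem_map, List.mem_range]
  exact Or.inr (Or.inl (Or.inl (Or.inl (Or.inl ⟨c - 5, by omega, by rw [Nat.sub_add_cancel h5]⟩))))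

theorem mem_qq (i j : Fin 12) : ([i.val + 20, j.val + 20],
    (if j.val = i.val ^^^ 1 then [4] else []) ++ [j.val + 20, i.val + 20]) ∈ eqList := by
  unfold eqList
  simp only [List.mem_cons, List.mem_append, List.mem_flatMap, List.mem_map, List.mem_range]
  exact Or.inr (Or.inl (Or.inl (Or.inr ⟨i.val, i.isLt, j.val, j.isLt, rfl⟩)))

theorem mem_pq (i : Fin 12) : ([32, i.val + 20],
    (bif (conjP.getD i.val (false, [])).1 then [4] else []) ++
      (conjP.getD i.val (false, [])).2.map (· + 20) ++ [32]) ∈ eqList := by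
  unfold eqList
  simp only [List.mem_cons, List.mem_append, List.mem_map, List.mem_range]
  exact Or.inr (Or.inl (Or.inr ⟨i.val, i.isLt, rfl⟩))

theorem mem_11 : ([51, 4], [4, 51]) ∈ eqList := by
  unfold eqList
  simp

theorem mem_zz : ([4, 4], []) ∈ eqList := by
  unfold eqList
  simp

theorem conjP_lt : ∀ i < 12, ∀ a ∈ (conjP.getD i (false, [])).2, a < 12 := by decide +kernel

theorem words_cen : ∀ i < 13, ∀ a ∈ wWord (i + 20), 5 ≤ a ∧ a < 20 := by decide +kernel

/-- The involution. -/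
noncomputable def zJ : J4 := el 4

/-- The generators of the extraspecial group. -/
noncomputable def qJ (i : Fin 12) : J4 := el (i.val + 20)

/-- The element of order 3. -/
noncomputable def pJ : J4 := el 32

/-- The centraliser of the involution. -/
noncomputable def cenZ : Subgroup J4 := Subgroup.centralizer ({zJ} : Set J4)

theorem mem_cenZ {g : J4} : g ∈ cenZ ↔ zJ * g = g * zJ := by
  rw [cenZ, Subgroup.mem_centralizer_singleton_iff, eq_comm]

/-- The extraspecial group. -/
noncomputable def qGrp : Subgroup J4 := Subgroup.closure (insert zJ (Set.range qJ))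

/-- The group of order `3 * 2 ^ 13`. -/
noncomputable def nGrp : Subgroup J4 := qGrp ⊔ Subgroup.zpowers pJ

/-- The group of the generators of the centraliser. -/
noncomputable def kGrp : Subgroup J4 :=
  Subgroup.closure (Set.range fun k : Fin 15 => el (k.val + 5))

theorem z_mem_q : zJ ∈ qGrp := Subgroup.subset_closure (Set.mem_insert _ _)

theorem q_mem_q (i : Fin 12) : qJ i ∈ qGrp :=
  Subgroup.subset_closure (Set.mem_insert_of_mem _ ⟨i, rfl⟩)

theorem el_mem_k {c : ℕ} (h5 : 5 ≤ c) (hc : c < 20) : el c ∈ kGrp :=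
  Subgroup.subset_closure ⟨⟨c - 5, by omega⟩, by show el (c - 5 + 5) = el c; rw [Nat.sub_add_cancel h5]⟩

theorem el_mem_k' (i : ℕ) (hi : i < 13) : el (i + 20) ∈ kGrp := by
  rw [el_word (by omega) (by omega)]
  refine list_prod_mem fun x hx => ?_
  obtain ⟨a, ha, rfl⟩ := List.mem_map.1 hx
  exact el_mem_k (words_cen i hi a ha).1 (words_cen i hi a ha).2

theorem q_mem_k (i : Fin 12) : qJ i ∈ kGrp := el_mem_k' i.val (by omega)

theorem p_mem_k : pJ ∈ kGrp := el_mem_k' 12 (by omega)

theorem rep_zJ : (rep zJ).val = toMat (wTab 4) := rep_el (by norm_num)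

section Normalise

variable {G : Type*} [Group G] [Finite G]

/-- A conjugation mapping generators into the closure normalises it. -/
theorem mem_normalizer_closure {S : Set G} {g : G}
    (h : ∀ s ∈ S, g * s * g⁻¹ ∈ Subgroup.closure S) :
    g ∈ Subgroup.normalizer (Subgroup.closure S : Set G) := by
  have hle : (Subgroup.closure S).map (MulAut.conj g).toMonoidHom ≤ Subgroup.closure S := by
    rw [MonoidHom.map_closure, Subgroup.closure_le]
    rintro _ ⟨s, hs, rfl⟩
    exact h s hs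
  have heq := Subgroup.eq_of_le_of_card_ge hle
    (le_of_eq (Subgroup.card_map_of_injective (MulAut.conj g).injective).symm)
  rw [Subgroup.mem_normalizer_iff]
  intro x
  constructor
  · exact fun hx => hle ⟨x, hx, rfl⟩
  · intro hx
    rw [← heq] at hx
    obtain ⟨y, hy, e⟩ := hx
    rwa [(MulAut.conj g).injective (a₁ := y) (a₂ := x) e] at hy

theorem card_sup_le {A B : Subgroup G} (h : A ≤ Subgroup.normalizer (B : Set G)) :
    Nat.card (A ⊔ B : Subgroup G) ≤ Nat.card A * Nat.card B := by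
  have e := Subgroup.coe_mul_of_left_le_normalizer_right A B h
  show Nat.card ((A ⊔ B : Subgroup G) : Set G) ≤ _
  rw [e]
  exact Set.natCard_mul_le

end Normalise

namespace Hyp

variable (H : Hyp)
include H

theorem z_sq : zJ * zJ = 1 := by
  have h := H.rel mem_zz
  simpa [elW, zJ] using h

theorem z_ne : zJ ≠ 1 := by
  intro e
  have h : toMat (wTab 4) = 1 := by rw [← rep_zJ, e, map_one, Units.val_one]
  have h0 : toMat nRows = 0 := by
    rw [nRows_eq, h]
    ext i j
    exact CharTwo.add_self_eq_zero _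
  have hb : (List.range 112).any (fun i => Nat.blt (rowMul nRows (2 ^ i)) (2 ^ 112) &&
      !(Nat.beq (rowMul nRows (2 ^ i)) 0)) = true := by decide +kernel
  obtain ⟨i, -, hi⟩ := List.any_eq_true.1 hb
  rw [Bool.and_eq_true, Bool.not_eq_true', Nat.blt_eq] at hi
  refine Bool.eq_false_iff.1 hi.2 ?_
  rw [vecOf_inj (b := 0) hi.1 (by norm_num) (by
    rw [vecOf_rowMul (by simp [nRows]), h0, Matrix.vecMul_zero, vecOf_zero])]
  rfl

theorem orderOf_z : orderOf zJ = 2 :=
  orderOf_eq_prime (p := 2) (hp := ⟨Nat.prime_two⟩) (by rw [pow_two, H.z_sq]) H.z_ne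

theorem z_inv : zJ⁻¹ = zJ := inv_eq_of_mul_eq_one_right H.z_sq

theorem comm_el {c : ℕ} (h5 : 5 ≤ c) (hc : c < 33) : zJ * el c = el c * zJ := by
  have h := H.rel (mem_z c h5 hc)
  simpa [elW, zJ] using h.symm

theorem el_mem_cenZ {c : ℕ} (h5 : 5 ≤ c) (hc : c < 33) : el c ∈ cenZ :=
  mem_cenZ.2 (H.comm_el h5 hc)

theorem el51_mem : el 51 ∈ cenZ := by
  rw [mem_cenZ]
  have h := H.rel mem_11
  simpa [elW, zJ] using h.symm

theorem z_mem_cenZ : zJ ∈ cenZ := mem_cenZ.2 rfl

theorem k_le : kGrp ≤ cenZ := by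
  rw [kGrp, Subgroup.closure_le]
  rintro _ ⟨k, rfl⟩
  exact H.el_mem_cenZ (by omega) (by omega)

theorem q_le_cenZ : qGrp ≤ cenZ := by
  rw [qGrp, Subgroup.closure_le]
  rintro _ (rfl | ⟨i, rfl⟩)
  · exact H.z_mem_cenZ
  · exact H.el_mem_cenZ (by omega) (by omega)

theorem q_comm_z (i : Fin 12) : zJ * qJ i = qJ i * zJ := H.comm_el (by omega) (by omega)

theorem qq (i j : Fin 12) :
    qJ i * qJ j * (qJ i)⁻¹ = (if j.val = i.val ^^^ 1 then zJ else 1) * qJ j := by
  have h := H.rel (mem_qq i j)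
  rw [mul_inv_eq_iff_eq_mul]
  split_ifs with e
  · rw [if_pos e] at h
    simpa [elW, qJ, zJ, mul_assoc] using h
  · rw [if_neg e] at h
    simpa [elW, qJ, zJ, mul_assoc] using h

theorem q_sq (i : Fin 12) : qJ i * qJ i = 1 := by
  have h := H.rel (mem_square i)
  simpa [elW, qJ] using h

theorem z_mem_k : zJ ∈ kGrp := by
  have h := H.qq 0 1
  rw [if_pos (by decide)] at h
  rw [eq_mul_inv_iff_mul_eq.2 h.symm]
  exact kGrp.mul_mem (kGrp.mul_mem (kGrp.mul_mem (q_mem_k 0) (q_mem_k 1))
    (kGrp.inv_mem (q_mem_k 0))) (kGrp.inv_mem (q_mem_k 1))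

theorem q_le_k : qGrp ≤ kGrp := by
  rw [qGrp, Subgroup.closure_le]
  rintro _ (rfl | ⟨i, rfl⟩)
  · exact H.z_mem_k
  · exact q_mem_k i

theorem n_le_k : nGrp ≤ kGrp :=
  sup_le H.q_le_k (Subgroup.zpowers_le.2 p_mem_k)

/-! ### The order of the extraspecial group -/

theorem z_central : ∀ x ∈ qGrp, zJ * x = x * zJ := fun _ hx => mem_cenZ.1 (H.q_le_cenZ hx)

theorem conj_q : ∀ x ∈ qGrp, ∀ j, x * qJ j * x⁻¹ * (qJ j)⁻¹ ∈ Subgroup.zpowers zJ := by
  intro x hx
  induction hx using Subgroup.closure_induction with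
  | mem x hx =>
    intro j
    rcases hx with rfl | ⟨i, rfl⟩
    · rw [H.q_comm_z, mul_inv_cancel_right, mul_inv_cancel]
      exact Subgroup.one_mem _
    · rw [H.qq, mul_inv_cancel_right]
      split_ifs
      · exact Subgroup.mem_zpowers _
      · exact Subgroup.one_mem _
  | one => intro j; simp
  | mul a b ha hb iha ihb =>
    intro j
    obtain ⟨k, hk⟩ := Subgroup.mem_zpowers_iff.1 (ihb j)
    have e : a * b * qJ j * (a * b)⁻¹ * (qJ j)⁻¹ =
        zJ ^ k * (a * qJ j * a⁻¹ * (qJ j)⁻¹) := by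
      rw [← mul_assoc, ← mul_assoc, ← mul_assoc,
        ← ((show Commute zJ a from H.z_central a ha).zpow_left k).symm.eq, hk]
      group
    rw [e]
    exact Subgroup.mul_mem _ (zpow_mem (Subgroup.mem_zpowers _) k) (iha j)
  | inv a ha iha =>
    intro j
    obtain ⟨k, hk⟩ := Subgroup.mem_zpowers_iff.1 (iha j)
    have hc : Commute (zJ ^ k) (qJ j) := (show Commute zJ (qJ j) from H.q_comm_z j).zpow_left k
    have ha' : Commute (zJ ^ k) a := (show Commute zJ a from H.z_central a ha).zpow_left k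
    have e1 : a * qJ j * a⁻¹ = zJ ^ k * qJ j := by rw [hk]; group
    have e2 : a⁻¹ * qJ j * a = (zJ ^ k)⁻¹ * qJ j := by
      have h1 : qJ j = a⁻¹ * (zJ ^ k * qJ j) * a := by rw [← e1]; group
      conv_rhs => rw [h1, ← mul_assoc a⁻¹, ← ha'.inv_right.eq]
      group
    rw [inv_inv, e2, mul_inv_cancel_right]
    exact inv_mem (zpow_mem (Subgroup.mem_zpowers _) k)

/-- The commutators with the generators. -/
noncomputable def psi : qGrp →* (Fin 12 → Subgroup.zpowers zJ) :=
  MonoidHom.mk' (fun x j => ⟨_, H.conj_q x.1 x.2 j⟩) fun a b => funext fun j => Subtype.ext (by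
    show a.1 * b.1 * qJ j * (a.1 * b.1)⁻¹ * (qJ j)⁻¹ =
      (a.1 * qJ j * a.1⁻¹ * (qJ j)⁻¹) * (b.1 * qJ j * b.1⁻¹ * (qJ j)⁻¹)
    obtain ⟨k, hk⟩ := Subgroup.mem_zpowers_iff.1 (H.conj_q b.1 b.2 j)
    obtain ⟨l, hl⟩ := Subgroup.mem_zpowers_iff.1 (H.conj_q a.1 a.2 j)
    rw [← hk, ← hl, ← (Commute.zpow_zpow_self zJ k l).eq, hl]
    simp only [← mul_assoc]
    rw [← ((show Commute zJ a.1 from H.z_central a.1 a.2).zpow_left k).symm.eq, hk]
    group)

theorem psi_apply (x : qGrp) (j : Fin 12) :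
    (H.psi x j).1 = x.1 * qJ j * x.1⁻¹ * (qJ j)⁻¹ := rfl

theorem card_zz : Nat.card (Subgroup.zpowers zJ) = 2 := by rw [Nat.card_zpowers, H.orderOf_z]

theorem psi_surjective : Function.Surjective H.psi := by
  intro f
  refine Subgroup.pi_mem_of_mulSingle_mem (H := H.psi.range) f fun j => ?_
  obtain ⟨k, hk⟩ := Subgroup.mem_zpowers_iff.1 (f j).2
  have hj : j.val ^^^ 1 < 12 := by
    have : ∀ a < 12, a ^^^ 1 < 12 := by decide
    exact this _ j.isLt
  refine ⟨⟨qJ ⟨j.val ^^^ 1, hj⟩, q_mem_q _⟩ ^ k, funext fun i => Subtype.ext ?_⟩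
  rw [map_zpow, Pi.pow_apply, SubgroupClass.coe_zpow, psi_apply, H.qq, mul_inv_cancel_right]
  have key : ∀ a < 12, ∀ b < 12, (a = b ^^^ 1 ^^^ 1 ↔ a = b) := by decide
  simp only [key i.val i.isLt j.val j.isLt]
  by_cases e : i = j
  · subst e
    simp [hk]
  · simp [Fin.val_ne_of_ne e, Pi.mulSingle_eq_of_ne e]

theorem card_q_le : Nat.card qGrp ≤ 2 ^ 13 := by
  haveI := H.finite
  let A : ℕ → Subgroup J4 := fun n =>
    Subgroup.closure (insert zJ {x | ∃ i : Fin 12, i.val < n ∧ qJ i = x})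
  have hA : ∀ n, n ≤ 12 → Nat.card (A n) ≤ 2 ^ (n + 1) := by
    intro n
    induction n with
    | zero =>
      intro _
      have : A 0 = Subgroup.zpowers zJ := by
        rw [Subgroup.zpowers_eq_closure]
        show Subgroup.closure _ = _
        congr 1
        ext x; simp
      rw [this, H.card_zz]; norm_num
    | succ n ih =>
      intro hn
      have hz : ∀ k : ℕ, zJ ∈ A k := fun k => Subgroup.subset_closure (Set.mem_insert _ _)
      let qn := qJ ⟨n, by omega⟩
      have hnorm : qn ∈ Subgroup.normalizer (A n : Set J4) := by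
        refine mem_normalizer_closure fun s hs => ?_
        rcases hs with rfl | ⟨i, hi, rfl⟩
        · rw [← H.q_comm_z, mul_inv_cancel_right]; exact hz n
        · rw [H.qq]
          refine Subgroup.mul_mem _ ?_
            (Subgroup.subset_closure (Set.mem_insert_of_mem _ ⟨i, hi, rfl⟩))
          split_ifs
          · exact hz n
          · exact Subgroup.one_mem _
      have hle : A (n + 1) ≤ Subgroup.zpowers qn ⊔ A n := by
        rw [Subgroup.closure_le]
        rintro _ (rfl | ⟨i, hi, rfl⟩)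
        · exact Subgroup.mem_sup_right (hz n)
        · rcases Nat.lt_or_ge i.val n with h | h
          · exact Subgroup.mem_sup_right (Subgroup.subset_closure
              (Set.mem_insert_of_mem _ ⟨i, h, rfl⟩))
          · have e : qn = qJ i := congrArg qJ (Fin.ext (show n = i.val by omega))
            exact Subgroup.mem_sup_left (e ▸ Subgroup.mem_zpowers qn)
      have h2 : Nat.card (Subgroup.zpowers qn) ≤ 2 := by
        rw [Nat.card_zpowers]
        exact orderOf_le_of_pow_eq_one (by norm_num) (by rw [pow_two, H.q_sq])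
      calc Nat.card (A (n + 1)) ≤ Nat.card (Subgroup.zpowers qn ⊔ A n : Subgroup J4) :=
            Subgroup.card_le_of_le hle
        _ ≤ 2 * 2 ^ (n + 1) :=
            (card_sup_le (Subgroup.zpowers_le.2 hnorm)).trans (Nat.mul_le_mul h2 (ih (by omega)))
        _ = _ := (pow_succ' 2 (n + 1)).symm
  refine le_trans (Subgroup.card_le_of_le ?_) (hA 12 le_rfl)
  rw [qGrp, Subgroup.closure_le]
  rintro _ (rfl | ⟨i, rfl⟩)
  · exact Subgroup.subset_closure (Set.mem_insert _ _)
  · exact Subgroup.subset_closure (Set.mem_insert_of_mem _ ⟨i, i.isLt, rfl⟩)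

theorem card_ker_mul : Nat.card H.psi.ker * 2 ^ 12 = Nat.card qGrp := by
  haveI := H.finite
  have h := Subgroup.card_mul_index H.psi.ker
  rw [Subgroup.index_ker, MonoidHom.range_eq_top.2 H.psi_surjective, Subgroup.card_top, Nat.card_fun,
    H.card_zz, Nat.card_fin] at h
  exact h

theorem z_psi : (⟨zJ, z_mem_q⟩ : qGrp) ∈ H.psi.ker :=
  funext fun j => Subtype.ext (by
    rw [psi_apply, H.q_comm_z, mul_inv_cancel_right, mul_inv_cancel]; rfl)

theorem two_le_ker : 2 ≤ Nat.card H.psi.ker := by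
  haveI := H.finite
  haveI : Nontrivial H.psi.ker :=
    ⟨⟨⟨zJ, z_mem_q⟩, H.z_psi⟩, 1, fun e => H.z_ne (congrArg (fun x : H.psi.ker => x.1.1) e)⟩
  exact Finite.one_lt_card

theorem card_q : Nat.card qGrp = 2 ^ 13 := by
  have h := H.card_ker_mul
  have := H.two_le_ker
  have := H.card_q_le
  omega

theorem ker_psi {x : qGrp} (hx : x ∈ H.psi.ker) : x.1 = 1 ∨ x.1 = zJ := by
  haveI := H.finite
  have h2 : Nat.card H.psi.ker = 2 := by
    have h := H.card_ker_mul
    rw [H.card_q] at h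
    omega
  rw [Nat.card_eq_two_iff' (⟨1, H.psi.ker.one_mem⟩ : H.psi.ker)] at h2
  obtain ⟨y, hy, huniq⟩ := h2
  by_cases e : x.1 = 1
  · exact Or.inl e
  · right
    have h1 : (⟨x, hx⟩ : H.psi.ker) = y := huniq _ fun e' => e (congrArg (fun t => t.1.1) e')
    have h3 : (⟨⟨zJ, z_mem_q⟩, H.z_psi⟩ : H.psi.ker) = y :=
      huniq _ fun e' => H.z_ne (congrArg (fun t => t.1.1) e')
    exact congrArg (fun t : H.psi.ker => t.1.1) (h1.trans h3.symm)

theorem isExtraspecial_q : Cfsg.IsExtraspecial 2 qGrp := by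
  haveI := H.finite
  refine CfsgLib.FGS74.Cubic.isExtraspecial_of (IsPGroup.of_card (n := 13) H.card_q) z_mem_q H.z_sq
    H.z_ne (fun t ht => H.z_central t ht) (fun x hx => ?_) (fun x hx h => ?_) ?_
  · have : (⟨x, hx⟩ * ⟨x, hx⟩ : qGrp) ∈ H.psi.ker := by
      rw [MonoidHom.mem_ker, map_mul]
      funext j
      rw [Pi.mul_apply, Pi.one_apply, ← pow_two, ← H.card_zz, pow_card_eq_one']
    exact H.ker_psi this
  · refine H.ker_psi (x := ⟨x, hx⟩) (funext fun j => Subtype.ext ?_)
    rw [psi_apply, h _ (q_mem_q j), mul_inv_cancel_right, mul_inv_cancel]; rfl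
  · refine ⟨qJ 0, q_mem_q 0, qJ 1, q_mem_q 1, fun e => H.z_ne ?_⟩
    have := H.qq 0 1
    rw [e, mul_inv_cancel_right, if_pos (by decide)] at this
    simpa using this.symm

/-! ### The group of order `3 * 2 ^ 13` -/

theorem p_normal : pJ ∈ Subgroup.normalizer (qGrp : Set J4) := by
  haveI := H.finite
  refine mem_normalizer_closure fun s hs => ?_
  rcases hs with rfl | ⟨i, rfl⟩
  · rw [pJ, ← H.comm_el (by norm_num) (by norm_num), mul_inv_cancel_right]; exact z_mem_q
  · have h := H.rel (mem_pq i)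
    rw [elW_cons, elW_singleton, elW_append, elW_singleton] at h
    show el 32 * el (i.val + 20) * (el 32)⁻¹ ∈ qGrp
    rw [h, mul_inv_cancel_right, elW_append]
    refine qGrp.mul_mem ?_ ?_
    · cases (conjP.getD i.val (false, [])).1
      · exact qGrp.one_mem
      · exact (elW_singleton 4).symm ▸ z_mem_q
    · refine list_prod_mem fun x hx => ?_
      obtain ⟨a, ha, rfl⟩ := List.mem_map.1 hx
      obtain ⟨b, hb, rfl⟩ := List.mem_map.1 ha
      exact q_mem_q ⟨b, conjP_lt i.val i.isLt b hb⟩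

theorem p_cube : pJ ^ 3 = 1 := H.rel_pow (mem_tail (by simp))

theorem q_normal_n : (qGrp.subgroupOf nGrp).Normal := by
  refine Subgroup.normal_subgroupOf_iff_le_normalizer le_sup_left |>.2 ?_
  exact sup_le Subgroup.le_normalizer (Subgroup.zpowers_le.2 H.p_normal)

theorem p_ne : pJ ≠ 1 := by
  intro e
  have hrow : (List.range 112).any (fun i => Nat.blt ((wTab 32).getD i 0) (2 ^ 112) &&
      !(Nat.beq ((wTab 32).getD i 0) (2 ^ i))) = true := by decide +kernel
  obtain ⟨i, hi, h⟩ := List.any_eq_true.1 hrow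
  rw [List.mem_range] at hi
  rw [Bool.and_eq_true, Bool.not_eq_true', Nat.blt_eq] at h
  refine (Bool.eq_false_iff.1 h.2) ?_
  rw [vecOf_inj h.1 (Nat.pow_lt_pow_right (by norm_num) hi)
    (show vecOf ((wTab 32).getD i 0) = vecOf (2 ^ i) from ?_)]
  · exact Nat.beq_refl _
  have h1 : toMat (wTab 32) = 1 := by rw [← rep_el (by norm_num), show el 32 = 1 from e, map_one, Units.val_one]
  rw [vecOf_two_pow ⟨i, hi⟩]
  funext j
  have := congrFun (congrFun h1 ⟨i, hi⟩) j
  rw [Matrix.one_apply] at this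
  rw [Pi.single_apply]
  refine Eq.trans this ?_
  simp [eq_comm]

theorem card_n : Nat.card nGrp = 3 * 2 ^ 13 := by
  haveI := H.finite
  haveI : Fact (Nat.Prime 3) := ⟨by norm_num⟩
  have h3 : Nat.card (Subgroup.zpowers pJ) = 3 := by
    rw [Nat.card_zpowers, orderOf_eq_prime H.p_cube H.p_ne]
  have hle : Nat.card nGrp ≤ 3 * 2 ^ 13 := by
    rw [nGrp, sup_comm, ← h3, ← H.card_q]
    exact card_sup_le (Subgroup.zpowers_le.2 H.p_normal)
  refine le_antisymm hle (Nat.le_of_dvd Nat.card_pos ?_)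
  exact Nat.Coprime.mul_dvd_of_dvd_of_dvd (by norm_num)
    (h3 ▸ Subgroup.card_dvd_of_le le_sup_right) (H.card_q ▸ Subgroup.card_dvd_of_le le_sup_left)

theorem index_q_n : (qGrp.subgroupOf nGrp).index = 3 := by
  haveI := H.finite
  have h := Subgroup.card_mul_index (qGrp.subgroupOf nGrp)
  have hle : qGrp ≤ nGrp := le_sup_left
  rw [Nat.card_congr (Subgroup.subgroupOfEquivOfLe hle).toEquiv, H.card_q,
    H.card_n] at h
  omega

/-- The elements of order dividing 4 of the group lie in the extraspecial group. -/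
theorem mem_q_of_pow_four {x : J4} (hx : x ∈ nGrp) (h4 : x ^ 4 = 1) : x ∈ qGrp := by
  haveI := H.q_normal_n
  have h := Subgroup.pow_index_mem (qGrp.subgroupOf nGrp) ⟨x, hx⟩
  rw [H.index_q_n, Subgroup.mem_subgroupOf] at h
  have e : x = (x ^ 3)⁻¹ := eq_inv_of_mul_eq_one_right (by rw [← pow_succ, h4])
  rw [e]
  exact qGrp.inv_mem h

theorem pow_four {x : J4} (hx : x ∈ qGrp) : x ^ 4 = 1 := by
  haveI := H.finite
  have h : (⟨x, hx⟩ ^ 2 : qGrp) ∈ H.psi.ker := by
    rw [MonoidHom.mem_ker, map_pow]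
    funext j
    rw [Pi.pow_apply, Pi.one_apply, ← H.card_zz, pow_card_eq_one']
  rw [show x ^ 4 = x ^ 2 * x ^ 2 from pow_add x 2 2]
  rcases H.ker_psi h with e | e <;> simp only [SubgroupClass.coe_pow] at e <;> rw [e]
  · exact one_mul 1
  · exact H.z_sq

end Hyp

end CfsgLib.JankoFourInvol
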